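import Mathlib
import Cfsg.Agent.Helper2.Cliff
import Cfsg.Agent.Helper2.CenterDeg
import Cfsg.Agent.Helper2.IndExtra
import Cfsg.Agent.Helper25.CharKer
import Cfsg.Agent.Helper25.CharOrth
import Cfsg.Agent.Helper7.BrauerChar
import Cfsg.Agent.Helper7.LinChar
import Cfsg.Agent.Helper1.CharOrtho
import Cfsg.Agent.Helper1.CharComplete
import Cfsg.Agent.Helper7.Clifford

/-!
# Clifford multiplicities divide the index (helper7)

* `le_irrKer_of_sum_ne_zero`: a normal subgroup on which an irreducible character has nonzero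
  sum lies in its kernel.
* `indFun_restrict_mul`: `(φ_L)^Γ = φ · (1_L)^Γ`.
* `exists_irr_deg_of_extension`: a Gallagher-type degree count.
* `extGroup`: the central extension attached to an invariant irreducible representation of a
  normal subgroup.
* `mult_dvd_index_of_invariant`: for an invariant `ϑ`, the multiplicity `e` of `ϑ` in `χ_N`
  satisfies `χ(1) = e ϑ(1)` and `e ∣ [G : N]`.
-/

set_option autoImplicit false

namespace Cfsg.Agent.Helper7

open Cfsg Cfsg.Agent.Helper25 Cfsg.Agent.Helper2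
open scoped ComplexConjugate

universe u

section GD

variable {Γ : Type u} [Group Γ] [Fintype Γ]

/-- A normal subgroup on which an irreducible character has nonzero sum lies in its kernel. -/
theorem le_irrKer_of_sum_ne_zero (L : Subgroup Γ) [hL : L.Normal] [Fintype L]
    (β : IrrCharacter Γ) (h : ∑ l : L, (β : Γ → ℂ) l ≠ 0) : L ≤ irrKer β := by
  classical
  intro m hm
  rw [mem_irrKer]
  have hsum : ∀ y : Γ, ∑ l : L, (β : Γ → ℂ) (m * (y * (l : Γ) * y⁻¹))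
      = ∑ l : L, (β : Γ → ℂ) l := by
    intro y
    let e : L ≃ L :=
      { toFun := fun l => ⟨m * (y * (l : Γ) * y⁻¹), L.mul_mem hm (hL.conj_mem l l.2 y)⟩
        invFun := fun l => ⟨y⁻¹ * (m⁻¹ * (l : Γ)) * y, by
          have h5 := hL.conj_mem _ (L.mul_mem (L.inv_mem hm) l.2) y⁻¹
          simpa using h5⟩
        left_inv := fun l => by apply Subtype.ext; simp [mul_assoc]
        right_inv := fun l => by apply Subtype.ext; simp [mul_assoc] }
    exact Equiv.sum_comp e (fun l : L => (β : Γ → ℂ) l)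
  have h1 : ∑ l : L, ∑ y : Γ, (β : Γ → ℂ) (m * (y * (l : Γ) * y⁻¹))
      = ∑ l : L, (Nat.card Γ : ℂ) * (β : Γ → ℂ) m * (β : Γ → ℂ) l / (β : Γ → ℂ) 1 :=
    Finset.sum_congr rfl (fun l _ => irr_sum_conj_mul β m l)
  rw [Finset.sum_comm, Finset.sum_congr rfl (fun y _ => hsum y), Finset.sum_const,
    Finset.card_univ, nsmul_eq_mul] at h1
  have h2 : ∑ l : L, (Nat.card Γ : ℂ) * (β : Γ → ℂ) m * (β : Γ → ℂ) l / (β : Γ → ℂ) 1
      = (Nat.card Γ : ℂ) * (β : Γ → ℂ) m / (β : Γ → ℂ) 1 * ∑ l : L, (β : Γ → ℂ) l := by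
    rw [Finset.mul_sum]
    apply Finset.sum_congr rfl
    intro l _
    ring
  rw [h2, ← Nat.card_eq_fintype_card] at h1
  have hΓ : (Nat.card Γ : ℂ) ≠ 0 := card_ne_zero
  have h1' := irr_one_ne_zero β
  have h3 : (β : Γ → ℂ) m / (β : Γ → ℂ) 1 = 1 := by
    have h4 : (Nat.card Γ : ℂ) * (∑ l : L, (β : Γ → ℂ) l) * ((β : Γ → ℂ) m / (β : Γ → ℂ) 1)
        = (Nat.card Γ : ℂ) * (∑ l : L, (β : Γ → ℂ) l) * 1 := by
      calc (Nat.card Γ : ℂ) * (∑ l : L, (β : Γ → ℂ) l) * ((β : Γ → ℂ) m / (β : Γ → ℂ) 1)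
          = (Nat.card Γ : ℂ) * (β : Γ → ℂ) m / (β : Γ → ℂ) 1 * ∑ l : L, (β : Γ → ℂ) l := by
            ring
        _ = (Nat.card Γ : ℂ) * (∑ l : L, (β : Γ → ℂ) l) := h1.symm
        _ = _ := (mul_one _).symm
    exact mul_left_cancel₀ (mul_ne_zero hΓ h) h4
  rw [div_eq_one_iff_eq h1'] at h3
  exact h3

/-- `(φ_L)^Γ = φ · (1_L)^Γ` for a class function `φ`. -/
theorem indFun_restrict_mul (L : Subgroup Γ) (φ : Γ → ℂ) (hφ : IsClassFunction Γ φ) (g : Γ) :
    indFun L (fun l : L => φ l) g = φ g * indFun L (fun _ : L => (1 : ℂ)) g := by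
  rw [indFun_apply, indFun_apply, mul_left_comm]
  congr 1
  rw [Finset.mul_sum]
  apply Finset.sum_congr rfl
  intro x _
  by_cases hx : x⁻¹ * g * x ∈ L
  · rw [extendByZero_of_mem L _ hx, extendByZero_of_mem L _ hx, mul_one]
    show φ (x⁻¹ * g * x) = φ g
    have h1 := hφ g x⁻¹
    rwa [inv_inv] at h1
  · rw [extendByZero_of_not_mem L _ hx, extendByZero_of_not_mem L _ hx, mul_zero]

/-- Gallagher-type degree count: if `φ, ψ ∈ Irr(Γ)`, `L ⊴ Γ`, `⟨φ_L, ψ_L⟩ = e > 0` and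
`ψ(1) = e φ(1)`, then some irreducible character of `Γ` with `L` in its kernel has degree `e`. -/
theorem exists_irr_deg_of_extension (L : Subgroup Γ) [hL : L.Normal] [Fintype L]
    (φ ψ : IrrCharacter Γ) (e : ℕ) (he : 0 < e)
    (h1 : classInner (fun l : L => (φ : Γ → ℂ) l) (fun l : L => (ψ : Γ → ℂ) l) = e)
    (h2 : charDegree (ψ : Γ → ℂ) = e * charDegree (φ : Γ → ℂ)) :
    ∃ β : IrrCharacter Γ, L ≤ irrKer β ∧ charDegree (β : Γ → ℂ) = e := by
  classical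
  have hR : IsCharacter Γ (indFun L (fun _ : L => (1 : ℂ))) :=
    isCharacter_indFun L (isCharacter_of_isIrrCharacter (trivChar L).2)
  have hr : ∀ β : IrrCharacter Γ, ∃ r : ℕ,
      classInner (indFun L (fun _ : L => (1 : ℂ))) (β : Γ → ℂ) = r :=
    fun β => classInner_char_nat hR (irr_isCharacter β)
  choose r hr using hr
  have hm : ∀ β : IrrCharacter Γ, ∃ m : ℕ,
      classInner (fun g => (φ : Γ → ℂ) g * (β : Γ → ℂ) g) (ψ : Γ → ℂ) = m :=
    fun β => classInner_char_nat (isCharacter_mul (irr_isCharacter φ) (irr_isCharacter β))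
      (irr_isCharacter ψ)
  choose m hm using hm
  have hdec := classFun_eq_sum_classInner (isClassFunction_of_isCharacter hR)
  have hfrob : classInner (indFun L (fun l : L => (φ : Γ → ℂ) l)) (ψ : Γ → ℂ) = e := by
    rw [frobenius_reciprocity L _ _ (isClassFunction_of_isCharacter (irr_isCharacter ψ))]
    exact h1
  have hpt : ∀ g : Γ, indFun L (fun l : L => (φ : Γ → ℂ) l) g
      = ∑ β : IrrCharacter Γ, (r β : ℂ) * ((φ : Γ → ℂ) g * (β : Γ → ℂ) g) := by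
    intro g
    rw [indFun_restrict_mul L _ (isClassFunction_of_isCharacter (irr_isCharacter φ)) g]
    conv_lhs => rw [hdec]
    rw [Finset.sum_apply, Finset.mul_sum]
    apply Finset.sum_congr rfl
    intro β _
    rw [Pi.smul_apply, smul_eq_mul, hr β]
    ring
  have hexp : classInner (indFun L (fun l : L => (φ : Γ → ℂ) l)) (ψ : Γ → ℂ)
      = ∑ β : IrrCharacter Γ, ((r β * m β : ℕ) : ℂ) := by
    have hβ : ∀ β : IrrCharacter Γ, ((r β * m β : ℕ) : ℂ)
        = (Nat.card Γ : ℂ)⁻¹ * ∑ g : Γ,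
          (r β : ℂ) * ((φ : Γ → ℂ) g * (β : Γ → ℂ) g) * conj ((ψ : Γ → ℂ) g) := by
      intro β
      have h5 : (m β : ℂ) = (Nat.card Γ : ℂ)⁻¹ * ∑ g : Γ,
          ((φ : Γ → ℂ) g * (β : Γ → ℂ) g) * conj ((ψ : Γ → ℂ) g) := (hm β).symm
      rw [Nat.cast_mul, h5, ← mul_assoc, mul_comm (r β : ℂ), mul_assoc, Finset.mul_sum]
      congr 1
      apply Finset.sum_congr rfl
      intro g _
      ring
    rw [Finset.sum_congr rfl (fun β _ => hβ β), ← Finset.mul_sum, Finset.sum_comm]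
    show (Nat.card Γ : ℂ)⁻¹ * ∑ g : Γ, indFun L (fun l : L => (φ : Γ → ℂ) l) g
      * conj ((ψ : Γ → ℂ) g) = _
    congr 1
    apply Finset.sum_congr rfl
    intro g _
    rw [hpt g, Finset.sum_mul]
  rw [hfrob] at hexp
  have hN : e = ∑ β : IrrCharacter Γ, r β * m β := by exact_mod_cast hexp
  obtain ⟨β₀, hβ₀⟩ : ∃ β, r β * m β ≠ 0 := by
    by_contra hall
    push Not at hall
    rw [Finset.sum_eq_zero (fun β _ => hall β)] at hN
    omega
  have hr0 : r β₀ ≠ 0 := fun h => hβ₀ (by rw [h, zero_mul])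
  have hm0 : m β₀ ≠ 0 := fun h => hβ₀ (by rw [h, mul_zero])
  have hrβ := hr β₀
  rw [frobenius_reciprocity L _ _ (isClassFunction_of_isCharacter (irr_isCharacter β₀))] at hrβ
  have hs : ∑ l : L, (β₀ : Γ → ℂ) l ≠ 0 := by
    intro hs0
    apply hr0
    have h5 : classInner (fun _ : L => (1 : ℂ)) (fun l : L => (β₀ : Γ → ℂ) l) = 0 := by
      show (Nat.card L : ℂ)⁻¹ * ∑ l : L, (1 : ℂ) * conj ((β₀ : Γ → ℂ) l) = 0
      simp only [one_mul]
      rw [← map_sum, hs0, map_zero, mul_zero]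
    rw [h5] at hrβ
    exact_mod_cast hrβ.symm
  have hker := le_irrKer_of_sum_ne_zero L β₀ hs
  have hrdeg : r β₀ = charDegree (β₀ : Γ → ℂ) := by
    have h5 : classInner (fun _ : L => (1 : ℂ)) (fun l : L => (β₀ : Γ → ℂ) l)
        = (charDegree (β₀ : Γ → ℂ) : ℂ) := by
      show (Nat.card L : ℂ)⁻¹ * ∑ l : L, (1 : ℂ) * conj ((β₀ : Γ → ℂ) l) = _
      have hval : ∀ l : L, (1 : ℂ) * conj ((β₀ : Γ → ℂ) l)
          = (charDegree (β₀ : Γ → ℂ) : ℂ) := by
        intro l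
        rw [one_mul, (mem_irrKer β₀ l).mp (hker l.2), irr_one_eq_degree, Complex.conj_natCast]
      rw [Finset.sum_congr rfl (fun l _ => hval l), Finset.sum_const, Finset.card_univ,
        nsmul_eq_mul, ← Nat.card_eq_fintype_card, ← mul_assoc,
        inv_mul_cancel₀ (Nat.cast_ne_zero.mpr Nat.card_pos.ne'), one_mul]
    rw [h5] at hrβ
    exact_mod_cast hrβ.symm
  have hdeg : m β₀ * charDegree (ψ : Γ → ℂ)
      ≤ charDegree (φ : Γ → ℂ) * charDegree (β₀ : Γ → ℂ) := by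
    have hΞ : IsCharacter Γ (fun g => (φ : Γ → ℂ) g * (β₀ : Γ → ℂ) g) :=
      isCharacter_mul (irr_isCharacter φ) (irr_isCharacter β₀)
    have hn : ∀ ξ : IrrCharacter Γ, ∃ n : ℕ,
        classInner (fun g => (φ : Γ → ℂ) g * (β₀ : Γ → ℂ) g) (ξ : Γ → ℂ) = n :=
      fun ξ => classInner_char_nat hΞ (irr_isCharacter ξ)
    choose n hn using hn
    have hdecΞ := classFun_eq_sum_classInner (isClassFunction_of_isCharacter hΞ)
    have h1' := congrFun hdecΞ 1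
    rw [Finset.sum_apply] at h1'
    have h2' : ((charDegree (φ : Γ → ℂ) * charDegree (β₀ : Γ → ℂ) : ℕ) : ℂ)
        = ((∑ ξ : IrrCharacter Γ, n ξ * charDegree (ξ : Γ → ℂ) : ℕ) : ℂ) := by
      push_cast
      rw [← irr_one_eq_degree, ← irr_one_eq_degree]
      refine h1'.trans ?_
      apply Finset.sum_congr rfl
      intro ξ _
      rw [Pi.smul_apply, smul_eq_mul, hn ξ, irr_one_eq_degree]
    have h3' : charDegree (φ : Γ → ℂ) * charDegree (β₀ : Γ → ℂ)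
        = ∑ ξ : IrrCharacter Γ, n ξ * charDegree (ξ : Γ → ℂ) := by exact_mod_cast h2'
    rw [h3']
    have hnm : n ψ = m β₀ := by
      have h6 := (hn ψ).symm.trans (hm β₀)
      exact_mod_cast h6
    rw [← hnm]
    exact Finset.single_le_sum (f := fun ξ : IrrCharacter Γ => n ξ * charDegree (ξ : Γ → ℂ))
      (fun ξ _ => Nat.zero_le _) (Finset.mem_univ ψ)
  have hle : r β₀ * m β₀ ≤ e := by
    rw [hN]
    exact Finset.single_le_sum (f := fun β : IrrCharacter Γ => r β * m β)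
      (fun β _ => Nat.zero_le _) (Finset.mem_univ β₀)
  have hφpos := irr_degree_pos φ
  rw [h2] at hdeg
  have h4 : m β₀ * e ≤ charDegree (β₀ : Γ → ℂ) := by
    have h7 : charDegree (φ : Γ → ℂ) * (m β₀ * e)
        ≤ charDegree (φ : Γ → ℂ) * charDegree (β₀ : Γ → ℂ) := by
      calc charDegree (φ : Γ → ℂ) * (m β₀ * e)
          = m β₀ * (e * charDegree (φ : Γ → ℂ)) := by ring
        _ ≤ _ := hdeg
    exact Nat.le_of_mul_le_mul_left h7 hφpos
  rw [hrdeg] at hle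
  have hm1 : m β₀ = 1 := by
    have hmpos : 1 ≤ m β₀ := Nat.one_le_iff_ne_zero.mpr hm0
    by_contra hne
    have hm2 : 2 ≤ m β₀ := by omega
    have a1 : 2 * e ≤ m β₀ * e := Nat.mul_le_mul_right e hm2
    have a2 : charDegree (β₀ : Γ → ℂ) * 2 ≤ charDegree (β₀ : Γ → ℂ) * m β₀ :=
      Nat.mul_le_mul_left _ hm2
    omega
  refine ⟨β₀, hker, ?_⟩
  rw [hm1] at hle h4
  omega

end GD

section Ext

variable {G : Type u} [Group G] {d : ℕ}

/-- Endomorphisms of the standard `d`-dimensional complex space. -/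
abbrev EV (d : ℕ) : Type := Module.End ℂ (Fin d → ℂ)

/-- The central extension attached to a representation of a normal subgroup. -/
def extGroup (N : Subgroup G) [hN : N.Normal] (Θ : Representation ℂ N (Fin d → ℂ)) (k : ℕ) :
    Subgroup (G × (EV d)ˣ) where
  carrier := {x | (∀ n : N, (x.2 : EV d) * Θ n
      = Θ ⟨x.1 * n * x.1⁻¹, hN.conj_mem n n.2 x.1⟩ * (x.2 : EV d))
      ∧ LinearMap.det (x.2 : EV d) ^ k = 1}
  one_mem' := by
    refine ⟨fun n => ?_, ?_⟩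
    · show ((1 : (EV d)ˣ) : EV d) * Θ n
        = Θ ⟨(1 : G) * n * (1 : G)⁻¹, hN.conj_mem n n.2 1⟩ * ((1 : (EV d)ˣ) : EV d)
      rw [Units.val_one, one_mul, mul_one]
      congr 1
      apply Subtype.ext
      simp
    · show LinearMap.det ((1 : (EV d)ˣ) : EV d) ^ k = 1
      rw [Units.val_one, map_one, one_pow]
  mul_mem' := by
    rintro ⟨g, a⟩ ⟨g', b⟩ ⟨hx1, hx2⟩ ⟨hy1, hy2⟩
    refine ⟨fun n => ?_, ?_⟩
    · show ((a * b : (EV d)ˣ) : EV d) * Θ n
        = Θ ⟨(g * g') * n * (g * g')⁻¹, hN.conj_mem n n.2 (g * g')⟩ * ((a * b : (EV d)ˣ) : EV d)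
      have h1 : (b : EV d) * Θ n
          = Θ ⟨g' * n * g'⁻¹, hN.conj_mem n n.2 g'⟩ * (b : EV d) := hy1 n
      have h2 : (a : EV d) * Θ ⟨g' * n * g'⁻¹, hN.conj_mem n n.2 g'⟩
          = Θ ⟨g * (g' * n * g'⁻¹) * g⁻¹, hN.conj_mem _ (hN.conj_mem n n.2 g') g⟩ * (a : EV d) :=
        hx1 ⟨g' * n * g'⁻¹, hN.conj_mem n n.2 g'⟩
      rw [Units.val_mul, mul_assoc, h1, ← mul_assoc, h2, mul_assoc]
      congr 2
      apply Subtype.ext
      simp [mul_assoc]
    · show LinearMap.det ((a * b : (EV d)ˣ) : EV d) ^ k = 1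
      have h1 : LinearMap.det (a : EV d) ^ k = 1 := hx2
      have h2 : LinearMap.det (b : EV d) ^ k = 1 := hy2
      rw [Units.val_mul, map_mul, mul_pow, h1, h2, one_mul]
  inv_mem' := by
    rintro ⟨g, a⟩ ⟨hx1, hx2⟩
    refine ⟨fun n => ?_, ?_⟩
    · show ((a⁻¹ : (EV d)ˣ) : EV d) * Θ n
        = Θ ⟨g⁻¹ * n * g⁻¹⁻¹, hN.conj_mem n n.2 g⁻¹⟩ * ((a⁻¹ : (EV d)ˣ) : EV d)
      have h : (a : EV d) * Θ ⟨g⁻¹ * n * g⁻¹⁻¹, hN.conj_mem n n.2 g⁻¹⟩
          = Θ ⟨g * (g⁻¹ * n * g⁻¹⁻¹) * g⁻¹, hN.conj_mem _ (hN.conj_mem n n.2 g⁻¹) g⟩ * (a : EV d) :=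
        hx1 ⟨g⁻¹ * n * g⁻¹⁻¹, hN.conj_mem n n.2 g⁻¹⟩
      have h2 : (⟨g * (g⁻¹ * n * g⁻¹⁻¹) * g⁻¹, hN.conj_mem _ (hN.conj_mem n n.2 g⁻¹) g⟩ : N)
          = n := by
        apply Subtype.ext
        simp [mul_assoc]
      rw [h2] at h
      calc ((a⁻¹ : (EV d)ˣ) : EV d) * Θ n
          = ((a⁻¹ : (EV d)ˣ) : EV d) * (Θ n * (a : EV d)) * ((a⁻¹ : (EV d)ˣ) : EV d) := by
            rw [mul_assoc, mul_assoc, Units.mul_inv, mul_one]
        _ = ((a⁻¹ : (EV d)ˣ) : EV d)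
              * ((a : EV d) * Θ ⟨g⁻¹ * n * g⁻¹⁻¹, hN.conj_mem n n.2 g⁻¹⟩)
              * ((a⁻¹ : (EV d)ˣ) : EV d) := by rw [h]
        _ = _ := by rw [← mul_assoc, Units.inv_mul, one_mul]
    · show LinearMap.det ((a⁻¹ : (EV d)ˣ) : EV d) ^ k = 1
      have h1 : LinearMap.det (a : EV d) ^ k = 1 := hx2
      have h3 : LinearMap.det ((a⁻¹ : (EV d)ˣ) : EV d) * LinearMap.det (a : EV d) = 1 := by
        rw [← map_mul, Units.inv_mul, map_one]
      have h4 : (LinearMap.det ((a⁻¹ : (EV d)ˣ) : EV d) * LinearMap.det (a : EV d)) ^ k = 1 := by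
        rw [h3, one_pow]
      rw [mul_pow, h1, mul_one] at h4
      exact h4

theorem mem_extGroup (N : Subgroup G) [hN : N.Normal] (Θ : Representation ℂ N (Fin d → ℂ))
    (k : ℕ) (x : G × (EV d)ˣ) :
    x ∈ extGroup N Θ k ↔ (∀ n : N, (x.2 : EV d) * Θ n
      = Θ ⟨x.1 * n * x.1⁻¹, hN.conj_mem n n.2 x.1⟩ * (x.2 : EV d))
      ∧ LinearMap.det (x.2 : EV d) ^ k = 1 := Iff.rfl

/-- Two elements of the extension group over the same element of `G` differ by a root of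
unity. -/
theorem extGroup_fiber (N : Subgroup G) [hN : N.Normal] (Θ : Representation ℂ N (Fin d → ℂ))
    [Θ.IsIrreducible] (k : ℕ) (x y : G × (EV d)ˣ) (hx : x ∈ extGroup N Θ k)
    (hy : y ∈ extGroup N Θ k) (hxy : x.1 = y.1) :
    ∃ c : ℂ, (x.2 : EV d) = c • (y.2 : EV d) ∧ c ^ (d * k) = 1 := by
  obtain ⟨g, a⟩ := x
  obtain ⟨g', b⟩ := y
  simp only at hxy
  subst hxy
  rw [mem_extGroup] at hx hy
  obtain ⟨hx1, hx2⟩ := hx
  obtain ⟨hy1, hy2⟩ := hy
  simp only at hx1 hx2 hy1 hy2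
  have hT : ∀ n : N, (((b⁻¹ : (EV d)ˣ) : EV d) * (a : EV d)) ∘ₗ Θ n
      = Θ n ∘ₗ (((b⁻¹ : (EV d)ˣ) : EV d) * (a : EV d)) := by
    intro n
    show (((b⁻¹ : (EV d)ˣ) : EV d) * (a : EV d)) * Θ n
      = Θ n * (((b⁻¹ : (EV d)ˣ) : EV d) * (a : EV d))
    have h1 := hx1 n
    have h2 := hy1 n
    obtain ⟨X, hX⟩ : ∃ X : EV d, X = Θ ⟨g * n * g⁻¹, hN.conj_mem n n.2 g⟩ := ⟨_, rfl⟩
    rw [← hX] at h1 h2
    calc (((b⁻¹ : (EV d)ˣ) : EV d) * (a : EV d)) * Θ n
        = ((b⁻¹ : (EV d)ˣ) : EV d) * (X * (b : EV d))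
            * (((b⁻¹ : (EV d)ˣ) : EV d) * (a : EV d)) := by
          rw [mul_assoc, h1, mul_assoc, mul_assoc, Units.mul_inv_cancel_left]
      _ = ((b⁻¹ : (EV d)ˣ) : EV d) * ((b : EV d) * Θ n)
            * (((b⁻¹ : (EV d)ˣ) : EV d) * (a : EV d)) := by rw [h2]
      _ = _ := by rw [← mul_assoc ((b⁻¹ : (EV d)ˣ) : EV d), Units.inv_mul, one_mul]
  obtain ⟨c, hc⟩ := Helper1.exists_scalar_of_commute Θ _ hT
  have ha : (a : EV d) = c • (b : EV d) := by
    have h3 : (b : EV d) * (((b⁻¹ : (EV d)ˣ) : EV d) * (a : EV d)) = (a : EV d) := by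
      rw [← mul_assoc, Units.mul_inv, one_mul]
    rw [← h3, hc]
    show (b : EV d) * (c • (1 : EV d)) = c • (b : EV d)
    rw [mul_smul_comm, mul_one]
  refine ⟨c, ha, ?_⟩
  rw [ha, LinearMap.det_smul, Module.finrank_fin_fun, mul_pow, hy2, mul_one, ← pow_mul] at hx2
  exact hx2

/-- The extension group is finite. -/
theorem extGroup_finite [Finite G] (N : Subgroup G) [hN : N.Normal]
    (Θ : Representation ℂ N (Fin d → ℂ)) [Θ.IsIrreducible] (k : ℕ) (hk : 0 < d * k) :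
    Finite (extGroup N Θ k) := by
  classical
  have hS : {ζ : ℂ | ζ ^ (d * k) = 1}.Finite := by
    apply Set.Finite.subset (Polynomial.nthRoots (d * k) (1 : ℂ)).toFinset.finite_toSet
    intro ζ hζ
    simp only [Finset.mem_coe, Multiset.mem_toFinset]
    rw [Polynomial.mem_nthRoots hk]
    exact hζ
  have hfin : ((extGroup N Θ k : Subgroup (G × (EV d)ˣ)) : Set (G × (EV d)ˣ)).Finite := by
    apply Set.Finite.of_finite_fibers Prod.fst (Set.toFinite _)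
    rintro g ⟨y, hy, rfl⟩
    apply Set.Finite.subset (hS.image (fun ζ : ℂ =>
      ((y.1, if h : IsUnit (ζ • (y.2 : EV d)) then h.unit else 1) : G × (EV d)ˣ)))
    rintro x ⟨hx, hxg⟩
    obtain ⟨c, hc1, hc2⟩ := extGroup_fiber N Θ k x y hx hy hxg
    refine ⟨c, hc2, ?_⟩
    have hu : IsUnit (c • (y.2 : EV d)) := by
      rw [← hc1]
      exact x.2.isUnit
    show ((y.1, if h : IsUnit (c • (y.2 : EV d)) then h.unit else 1) : G × (EV d)ˣ) = x
    rw [dif_pos hu]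
    apply Prod.ext
    · exact hxg.symm
    · apply Units.ext
      rw [IsUnit.unit_spec]
      exact hc1.symm
  exact hfin.to_subtype

/-- An element of the extension group over `1` is central. -/
theorem extGroup_comm (N : Subgroup G) [hN : N.Normal] (Θ : Representation ℂ N (Fin d → ℂ))
    [Θ.IsIrreducible] (k : ℕ) (x : G × (EV d)ˣ) (hx : x ∈ extGroup N Θ k) (hx1 : x.1 = 1)
    (y : G × (EV d)ˣ) : x * y = y * x := by
  obtain ⟨g, a⟩ := x
  obtain ⟨g', b⟩ := y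
  simp only at hx1
  subst hx1
  have hT : ∀ n : N, (a : EV d) ∘ₗ Θ n = Θ n ∘ₗ (a : EV d) := by
    intro n
    have h1 : (a : EV d) * Θ n
        = Θ ⟨(1 : G) * n * (1 : G)⁻¹, hN.conj_mem n n.2 1⟩ * (a : EV d) := hx.1 n
    have h2 : (⟨(1 : G) * n * (1 : G)⁻¹, hN.conj_mem n n.2 1⟩ : N) = n := by
      apply Subtype.ext
      simp
    rw [h2] at h1
    exact h1
  obtain ⟨c, hc⟩ := Helper1.exists_scalar_of_commute Θ (a : EV d) hT
  apply Prod.ext
  · show (1 : G) * g' = g' * 1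
    rw [one_mul, mul_one]
  · apply Units.ext
    show (a : EV d) * (b : EV d) = (b : EV d) * (a : EV d)
    rw [hc]
    show (c • (1 : EV d)) * (b : EV d) = (b : EV d) * (c • (1 : EV d))
    rw [smul_mul_assoc, mul_smul_comm, one_mul, mul_one]

/-- Every element of `G` lifts to the extension group when the character is invariant. -/
theorem extGroup_exists (N : Subgroup G) [hN : N.Normal] [Fintype N]
    (Θ : Representation ℂ N (Fin d → ℂ)) [hΘ : Θ.IsIrreducible] (k : ℕ) (hk : 0 < d * k)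
    (hinv : ∀ (g : G) (n : N),
      Θ.character ⟨g * n * g⁻¹, hN.conj_mem n n.2 g⟩ = Θ.character n)
    (g : G) : ∃ x ∈ extGroup N Θ k, x.1 = g := by
  obtain ⟨cj, hcj⟩ : ∃ cj : N →* N, cj = (MulAut.conjNormal g : N ≃* N).toMonoidHom :=
    ⟨_, rfl⟩
  have hcj' : ∀ n : N, cj n = ⟨g * n * g⁻¹, hN.conj_mem n n.2 g⟩ := by
    intro n
    rw [hcj]
    apply Subtype.ext
    exact MulAut.conjNormal_apply g n
  have hsurj : Function.Surjective cj := by
    rw [hcj]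
    exact (MulAut.conjNormal g : N ≃* N).surjective
  obtain ⟨Θg, hΘg⟩ : ∃ Θg : Representation ℂ N (Fin d → ℂ), Θg = Θ.comp cj := ⟨_, rfl⟩
  have hΘg' : ∀ n : N, Θg n = Θ (cj n) := by
    intro n
    rw [hΘg]
    rfl
  haveI hirr : Θg.IsIrreducible := by
    rw [hΘg]
    exact (irreducible_comp_iff Θ cj hsurj).mpr hΘ
  have hchar : Θg.character = Θ.character := by
    funext n
    show LinearMap.trace ℂ _ (Θg n) = Θ.character n
    rw [hΘg' n, hcj', ← hinv g n]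
    rfl
  obtain ⟨φ⟩ := Helper1.nonempty_equiv_of_char_eq Θg Θ hchar
  obtain ⟨u, hu⟩ : ∃ u : (EV d)ˣ, (u : EV d) = φ.toLinearMap :=
    ⟨LinearMap.GeneralLinearGroup.ofLinearEquiv φ.toLinearEquiv, rfl⟩
  have hint : ∀ n : N, (u : EV d) * Θ n
      = Θ ⟨g * n * g⁻¹, hN.conj_mem n n.2 g⟩ * (u : EV d) := by
    intro n
    rw [hu, ← hcj', ← hΘg']
    exact φ.isIntertwining' n
  have hδ : LinearMap.det (u : EV d) ≠ 0 := by
    have h1 : LinearMap.det (u : EV d) * LinearMap.det ((u⁻¹ : (EV d)ˣ) : EV d) = 1 := by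
      rw [← map_mul, Units.mul_inv, map_one]
    intro h0
    rw [h0, zero_mul] at h1
    exact zero_ne_one h1
  obtain ⟨c, hc⟩ := IsAlgClosed.exists_pow_nat_eq ((LinearMap.det (u : EV d) ^ k)⁻¹) hk
  have hc0 : c ≠ 0 := by
    intro h0
    rw [h0, zero_pow hk.ne'] at hc
    exact (inv_ne_zero (pow_ne_zero k hδ)) hc.symm
  obtain ⟨v, hv⟩ : ∃ v : (EV d)ˣ, (v : EV d) = c • (u : EV d) :=
    ⟨⟨c • (u : EV d), c⁻¹ • ((u⁻¹ : (EV d)ˣ) : EV d), by
        rw [smul_mul_smul_comm, mul_inv_cancel₀ hc0, Units.mul_inv, one_smul], by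
        rw [smul_mul_smul_comm, inv_mul_cancel₀ hc0, Units.inv_mul, one_smul]⟩, rfl⟩
  refine ⟨(g, v), ⟨fun n => ?_, ?_⟩, rfl⟩
  · show (v : EV d) * Θ n = Θ ⟨g * n * g⁻¹, hN.conj_mem n n.2 g⟩ * (v : EV d)
    rw [hv, smul_mul_assoc, hint n, mul_smul_comm]
  · show LinearMap.det (v : EV d) ^ k = 1
    rw [hv, LinearMap.det_smul, Module.finrank_fin_fun, mul_pow, ← pow_mul, hc,
      inv_mul_cancel₀ (pow_ne_zero k hδ)]

/-- The embedding of `N` in the extension group. -/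
def extIncl (N : Subgroup G) [hN : N.Normal] (Θ : Representation ℂ N (Fin d → ℂ)) :
    N →* extGroup N Θ (Nat.card N) where
  toFun n := ⟨((n : G), Θ.asGroupHom n), by
    refine ⟨fun m => ?_, ?_⟩
    · show ((Θ.asGroupHom n : (EV d)ˣ) : EV d) * Θ m
        = Θ ⟨(n : G) * m * (n : G)⁻¹, hN.conj_mem m m.2 n⟩ * ((Θ.asGroupHom n : (EV d)ˣ) : EV d)
      rw [Representation.asGroupHom_apply, ← map_mul, ← map_mul]
      congr 1
      apply Subtype.ext
      simp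
    · show LinearMap.det ((Θ.asGroupHom n : (EV d)ˣ) : EV d) ^ Nat.card N = 1
      rw [Representation.asGroupHom_apply, ← map_pow, ← map_pow, pow_card_eq_one', map_one,
        map_one]⟩
  map_one' := Subtype.ext (Prod.ext rfl (map_one _))
  map_mul' a b := Subtype.ext (Prod.ext rfl (map_mul _ a b))

/-- The tautological representation of the extension group. -/
def extRep (N : Subgroup G) [hN : N.Normal] (Θ : Representation ℂ N (Fin d → ℂ)) (k : ℕ) :
    Representation ℂ (extGroup N Θ k) (Fin d → ℂ) :=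
  (Units.coeHom (EV d)).comp ((MonoidHom.snd G (EV d)ˣ).comp (extGroup N Θ k).subtype)

/-- For an invariant irreducible character `ϑ` of a normal subgroup `N`, the multiplicity of
`ϑ` in `χ_N` divides `[G : N]`. -/
theorem mult_dvd_index_of_invariant [Fintype G] (N : Subgroup G) [hN : N.Normal] [Fintype N]
    (χ : IrrCharacter G) (ϑ : IrrCharacter N)
    (hinv : ∀ (g : G) (n : N),
      (ϑ : N → ℂ) ⟨g * n * g⁻¹, hN.conj_mem n n.2 g⟩ = (ϑ : N → ℂ) n)
    (e : ℕ) (he : classInner (fun n : N => (χ : G → ℂ) n) (ϑ : N → ℂ) = e) (he0 : e ≠ 0) :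
    e ∣ N.index := by
  classical
  obtain ⟨d, Θ, hΘ, hΘϑ⟩ := ϑ.2
  haveI := hΘ
  have hϑ1 : (ϑ : N → ℂ) 1 = d := by
    rw [← hΘϑ]
    exact rep_char_one Θ
  have hd : 0 < d := by
    have h1 := irr_one_ne_zero ϑ
    rw [hϑ1] at h1
    exact Nat.pos_of_ne_zero (fun h => h1 (by rw [h, Nat.cast_zero]))
  have hk : 0 < d * Nat.card N := Nat.mul_pos hd Nat.card_pos
  obtain ⟨e', he'0, hres, he'⟩ := clifford_invariant N (ϑ : N → ℂ) ϑ.2 hinv (χ : G → ℂ) χ.2
    (by rw [he]; exact_mod_cast he0)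
  have hee : e' = e := by exact_mod_cast he'.symm.trans he
  rw [hee] at hres
  haveI hfin : Finite (extGroup N Θ (Nat.card N)) := extGroup_finite N Θ _ hk
  letI : Fintype (extGroup N Θ (Nat.card N)) := Fintype.ofFinite _
  have hinvΘ : ∀ (g : G) (n : N),
      Θ.character ⟨g * n * g⁻¹, hN.conj_mem n n.2 g⟩ = Θ.character n := by
    rw [hΘϑ]
    exact hinv
  obtain ⟨π, hπ⟩ : ∃ π : extGroup N Θ (Nat.card N) →* G,
      π = (MonoidHom.fst G (EV d)ˣ).comp (extGroup N Θ (Nat.card N)).subtype := ⟨_, rfl⟩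
  have hπa : ∀ x : extGroup N Θ (Nat.card N), π x = (x : G × (EV d)ˣ).1 := by
    intro x
    rw [hπ]
    rfl
  have hπs : Function.Surjective π := by
    intro g
    obtain ⟨x, hx, hxg⟩ := extGroup_exists N Θ _ hk hinvΘ g
    exact ⟨⟨x, hx⟩, by rw [hπa]; exact hxg⟩
  obtain ⟨ι, hι⟩ : ∃ ι : N →* extGroup N Θ (Nat.card N), ι = extIncl N Θ := ⟨_, rfl⟩
  have hι1 : ∀ n : N, π (ι n) = n := by
    intro n
    rw [hπa, hι]
    rfl
  have hι2 : ∀ n : N, (((ι n : extGroup N Θ (Nat.card N)) : G × (EV d)ˣ).2 : EV d) = Θ n := by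
    intro n
    rw [hι]
    exact Representation.asGroupHom_apply Θ n
  have hιinj : Function.Injective ι := by
    intro a b hab
    apply Subtype.ext
    rw [← hι1 a, ← hι1 b, hab]
  obtain ⟨L, hL⟩ : ∃ L : Subgroup (extGroup N Θ (Nat.card N)), L = ι.range := ⟨_, rfl⟩
  obtain ⟨eqv, heqv⟩ : ∃ eqv : N ≃ L,
      ∀ n : N, ((eqv n : L) : extGroup N Θ (Nat.card N)) = ι n := by
    subst hL
    exact ⟨(MonoidHom.ofInjective hιinj).toEquiv, fun n => rfl⟩
  haveI hLn : L.Normal := by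
    rw [hL]
    constructor
    rintro _ ⟨n, rfl⟩ x
    refine ⟨⟨π x * n * (π x)⁻¹, hN.conj_mem n n.2 _⟩, ?_⟩
    apply Subtype.ext
    apply Prod.ext
    · show (((ι ⟨π x * n * (π x)⁻¹, hN.conj_mem n n.2 _⟩ : extGroup N Θ (Nat.card N)) :
          G × (EV d)ˣ).1) = (x : G × (EV d)ˣ).1 * ((ι n : extGroup N Θ (Nat.card N)) :
          G × (EV d)ˣ).1 * ((x : G × (EV d)ˣ).1)⁻¹
      rw [← hπa, ← hπa, ← hπa, hι1, hι1]
    · apply Units.ext
      show (((ι ⟨π x * n * (π x)⁻¹, hN.conj_mem n n.2 _⟩ : extGroup N Θ (Nat.card N)) :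
          G × (EV d)ˣ).2 : EV d) = ((x : G × (EV d)ˣ).2 : EV d)
            * (((ι n : extGroup N Θ (Nat.card N)) : G × (EV d)ˣ).2 : EV d)
            * ((((x : G × (EV d)ˣ).2)⁻¹ : (EV d)ˣ) : EV d)
      rw [hι2, hι2]
      obtain ⟨X, hX⟩ : ∃ X : EV d, X = Θ ⟨π x * n * (π x)⁻¹, hN.conj_mem n n.2 _⟩ := ⟨_, rfl⟩
      have h1 : ((x : G × (EV d)ˣ).2 : EV d) * Θ n = X * ((x : G × (EV d)ˣ).2 : EV d) := by
        rw [hX]
        have h0 : ((x : G × (EV d)ˣ).2 : EV d) * Θ n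
            = Θ ⟨(x : G × (EV d)ˣ).1 * n * ((x : G × (EV d)ˣ).1)⁻¹,
                hN.conj_mem n n.2 _⟩ * ((x : G × (EV d)ˣ).2 : EV d) := x.2.1 n
        rw [h0]
        congr 2
        apply Subtype.ext
        show (x : G × (EV d)ˣ).1 * n * ((x : G × (EV d)ˣ).1)⁻¹ = π x * n * (π x)⁻¹
        rw [hπa]
      rw [← hX, h1, mul_assoc, Units.mul_inv, mul_one]
  letI : Fintype L := Fintype.ofFinite L
  obtain ⟨Θh, hΘh⟩ : ∃ Θh : Representation ℂ (extGroup N Θ (Nat.card N)) (Fin d → ℂ),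
      Θh = extRep N Θ (Nat.card N) := ⟨_, rfl⟩
  have hΘhι : ∀ n : N, Θh (ι n) = Θ n := by
    intro n
    rw [hΘh]
    exact hι2 n
  have hΘhirr : Θh.IsIrreducible := by
    apply isIrreducible_of_comp Θh ι
    have h5 : (Θh.comp ι : Representation ℂ N (Fin d → ℂ)) = Θ := by
      apply MonoidHom.ext
      intro n
      exact hΘhι n
    rw [h5]
    exact hΘ
  obtain ⟨ϑh, hϑh⟩ : ∃ ϑh : IrrCharacter (extGroup N Θ (Nat.card N)),
      (ϑh : extGroup N Θ (Nat.card N) → ℂ) = Θh.character :=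
    ⟨⟨Θh.character, d, Θh, hΘhirr, rfl⟩, rfl⟩
  obtain ⟨χh, hχh⟩ : ∃ χh : IrrCharacter (extGroup N Θ (Nat.card N)),
      χh = irrComp χ π hπs := ⟨_, rfl⟩
  have hχha : ∀ x : extGroup N Θ (Nat.card N),
      (χh : extGroup N Θ (Nat.card N) → ℂ) x = (χ : G → ℂ) (π x) := by
    intro x
    rw [hχh]
    rfl
  have hϑhι : ∀ n : N, (ϑh : extGroup N Θ (Nat.card N) → ℂ) (ι n) = (ϑ : N → ℂ) n := by
    intro n
    rw [hϑh, ← hΘϑ]
    show LinearMap.trace ℂ _ (Θh (ι n)) = LinearMap.trace ℂ _ (Θ n)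
    rw [hΘhι]
  have h1 : classInner (fun l : L => (ϑh : extGroup N Θ (Nat.card N) → ℂ) l)
      (fun l : L => (χh : extGroup N Θ (Nat.card N) → ℂ) l) = e := by
    show (Nat.card L : ℂ)⁻¹ * ∑ l : L, (ϑh : extGroup N Θ (Nat.card N) → ℂ) l
      * conj ((χh : extGroup N Θ (Nat.card N) → ℂ) l) = e
    rw [← Nat.card_congr eqv, ← Equiv.sum_comp eqv]
    have h3 : ∀ n : N, (ϑh : extGroup N Θ (Nat.card N) → ℂ) (eqv n)
        * conj ((χh : extGroup N Θ (Nat.card N) → ℂ) (eqv n))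
        = (ϑ : N → ℂ) n * conj ((χ : G → ℂ) n) := by
      intro n
      rw [heqv, hϑhι, hχha, hι1]
    rw [Finset.sum_congr rfl (fun n _ => h3 n)]
    have h4 := classInner_conj_symm (fun n : N => (χ : G → ℂ) n) (ϑ : N → ℂ)
    rw [he, Complex.conj_natCast] at h4
    exact h4
  have h2 : charDegree (χh : extGroup N Θ (Nat.card N) → ℂ)
      = e * charDegree (ϑh : extGroup N Θ (Nat.card N) → ℂ) := by
    have hχ1 : (χh : extGroup N Θ (Nat.card N) → ℂ) 1 = (χ : G → ℂ) 1 := by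
      rw [hχha, map_one]
    have hϑh1 : (ϑh : extGroup N Θ (Nat.card N) → ℂ) 1 = (ϑ : N → ℂ) 1 := by
      have h5 := hϑhι 1
      rwa [map_one] at h5
    have hres1 : (χ : G → ℂ) 1 = e * (ϑ : N → ℂ) 1 := congrFun hres 1
    have h6 : ((charDegree (χh : extGroup N Θ (Nat.card N) → ℂ) : ℕ) : ℂ)
        = ((e * charDegree (ϑh : extGroup N Θ (Nat.card N) → ℂ) : ℕ) : ℂ) := by
      push_cast
      rw [← irr_one_eq_degree, ← irr_one_eq_degree, hχ1, hϑh1]
      exact hres1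
    exact_mod_cast h6
  obtain ⟨β, hβL, hβe⟩ :=
    exists_irr_deg_of_extension L ϑh χh e (Nat.pos_of_ne_zero he0) h1 h2
  obtain ⟨n, ρ, hρ, hρβ, hker⟩ := irr_rep_ker β
  haveI := hρ
  have hcentral : ∀ g ∈ N.comap π, ∀ h : extGroup N Θ (Nat.card N),
      ρ (g * h) = ρ (h * g) := by
    intro g hg h
    obtain ⟨m, hm⟩ : ∃ m : N, (m : G) = π g := ⟨⟨π g, hg⟩, rfl⟩
    obtain ⟨z, hz⟩ : ∃ z : extGroup N Θ (Nat.card N), z = g * (ι m)⁻¹ := ⟨_, rfl⟩
    have hz1 : (z : G × (EV d)ˣ).1 = 1 := by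
      rw [← hπa, hz, map_mul, map_inv, hι1, hm, mul_inv_cancel]
    have hzc : ∀ y : extGroup N Θ (Nat.card N), z * y = y * z := by
      intro y
      apply Subtype.ext
      exact extGroup_comm N Θ _ z z.2 hz1 y
    have hg' : g = z * ι m := by rw [hz, inv_mul_cancel_right]
    have hρι : ρ (ι m) = 1 := by
      rw [← hker]
      exact (mem_irrKer β _).mp (hβL (by rw [hL]; exact ⟨m, rfl⟩))
    have hzh : ρ z * ρ h = ρ h * ρ z := by rw [← map_mul, ← map_mul, hzc h]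
    rw [hg', map_mul, map_mul, map_mul, map_mul, hρι, mul_one, hzh]
  have hdvd := finrank_dvd_index_of_central ρ (N.comap π) hcentral
  rw [Module.finrank_fin_fun, Subgroup.index_comap_of_surjective N hπs] at hdvd
  have hne : n = e := by
    have h5 : (β : extGroup N Θ (Nat.card N) → ℂ) 1 = n := by
      rw [← hρβ]
      exact rep_char_one ρ
    rw [irr_one_eq_degree, hβe] at h5
    exact_mod_cast h5.symm
  rw [hne] at hdvd
  exact hdvd

end Ext

section General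

variable {G : Type u} [Group G] [Fintype G]

/-- The Clifford degree theorem: for `χ ∈ Irr(G)` over `ϑ ∈ Irr(N)`, `N ⊴ G`, we have
`χ(1) = q ϑ(1)` with `q ∣ [G : N]`. -/
theorem degree_quot_dvd_index (N : Subgroup G) [hN : N.Normal] [Fintype N]
    (χ : IrrCharacter G) (ϑ : IrrCharacter N)
    (hcon : classInner (fun n : N => (χ : G → ℂ) n) (ϑ : N → ℂ) ≠ 0) :
    ∃ q : ℕ, charDegree (χ : G → ℂ) = q * charDegree (ϑ : N → ℂ) ∧ q ∣ N.index := by
  classical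
  obtain ⟨T, hT⟩ : ∃ T : Subgroup G, T = stabChar N (ϑ : N → ℂ) := ⟨_, rfl⟩
  have hNT : N ≤ T := by
    rw [hT]
    exact le_stabChar N _ (isClassFunction_of_isCharacter (irr_isCharacter ϑ))
  letI : Fintype T := Fintype.ofFinite T
  obtain ⟨N', hN'⟩ : ∃ N' : Subgroup T, N' = N.subgroupOf T := ⟨_, rfl⟩
  haveI hN'n : N'.Normal := by
    rw [hN']
    infer_instance
  letI : Fintype N' := Fintype.ofFinite N'
  obtain ⟨f, hf⟩ : ∃ f : N' →* N, ∀ n' : N', ((f n' : N) : G) = ((n' : T) : G) := by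
    subst hN'
    exact ⟨(Subgroup.subgroupOfEquivOfLe hNT).toMonoidHom, fun n' => rfl⟩
  have hfs : Function.Surjective f := by
    intro n
    refine ⟨⟨⟨n, hNT n.2⟩, ?_⟩, ?_⟩
    · rw [hN']
      exact (Subgroup.mem_subgroupOf).mpr n.2
    · apply Subtype.ext
      rw [hf]
  have hfi : Function.Injective f := by
    intro a b hab
    apply Subtype.ext
    apply Subtype.ext
    rw [← hf a, ← hf b, hab]
  obtain ⟨ϑ', hϑ'⟩ : ∃ ϑ' : IrrCharacter N', ϑ' = irrComp ϑ f hfs := ⟨_, rfl⟩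
  have hϑ'a : ∀ n' : N', (ϑ' : N' → ℂ) n' = (ϑ : N → ℂ) (f n') := by
    intro n'
    rw [hϑ']
    rfl
  have hinv' : ∀ (t : T) (n' : N'),
      (ϑ' : N' → ℂ) ⟨t * n' * t⁻¹, hN'n.conj_mem n' n'.2 t⟩ = (ϑ' : N' → ℂ) n' := by
    intro t n'
    rw [hϑ'a, hϑ'a]
    have ht : (t : G) ∈ stabChar N (ϑ : N → ℂ) := by
      rw [← hT]
      exact t.2
    rw [mem_stabChar] at ht
    have h1 := congrFun ht (f n')
    rw [conjChar_apply] at h1
    rw [← h1]
    refine congrArg _ ?_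
    apply Subtype.ext
    rw [hf]
    show ((t : G) * ((n' : T) : G) * (t : G)⁻¹) = (t : G) * ((f n' : N) : G) * (t : G)⁻¹
    rw [hf]
  have hχT : IsCharacter T (fun t : T => (χ : G → ℂ) t) :=
    isCharacter_restrict T (irr_isCharacter χ)
  have hdec := classFun_eq_sum_classInner (isClassFunction_of_isCharacter hχT)
  have hN'0 : (Nat.card N' : ℂ) ≠ 0 := Nat.cast_ne_zero.mpr Nat.card_pos.ne'
  have hsame : classInner (fun n' : N' => (χ : G → ℂ) ((n' : T) : G)) (ϑ' : N' → ℂ)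
      = classInner (fun n : N => (χ : G → ℂ) n) (ϑ : N → ℂ) := by
    obtain ⟨eqv, heqv⟩ : ∃ eqv : N' ≃ N, ∀ n' : N', eqv n' = f n' :=
      ⟨Equiv.ofBijective f ⟨hfi, hfs⟩, fun _ => rfl⟩
    show (Nat.card N' : ℂ)⁻¹ * ∑ n' : N', (χ : G → ℂ) ((n' : T) : G) * conj ((ϑ' : N' → ℂ) n')
      = (Nat.card N : ℂ)⁻¹ * ∑ n : N, (χ : G → ℂ) n * conj ((ϑ : N → ℂ) n)
    rw [← Nat.card_congr eqv,
      ← Equiv.sum_comp eqv (fun n : N => (χ : G → ℂ) n * conj ((ϑ : N → ℂ) n))]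
    congr 1
    apply Finset.sum_congr rfl
    intro n' _
    rw [heqv, hϑ'a, hf]
  obtain ⟨ψ, hψ1, hψ2⟩ : ∃ ψ : IrrCharacter T,
      classInner (fun t : T => (χ : G → ℂ) t) (ψ : T → ℂ) ≠ 0 ∧
      classInner (fun n' : N' => (ψ : T → ℂ) n') (ϑ' : N' → ℂ) ≠ 0 := by
    by_contra hall
    push Not at hall
    apply hcon
    rw [← hsame]
    show (Nat.card N' : ℂ)⁻¹ * ∑ n' : N', (χ : G → ℂ) ((n' : T) : G) * conj ((ϑ' : N' → ℂ) n')
      = 0
    have hpt : ∀ n' : N', (χ : G → ℂ) ((n' : T) : G) * conj ((ϑ' : N' → ℂ) n')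
        = ∑ ψ : IrrCharacter T, classInner (fun t : T => (χ : G → ℂ) t) (ψ : T → ℂ)
            * ((ψ : T → ℂ) n' * conj ((ϑ' : N' → ℂ) n')) := by
      intro n'
      have h1 := congrFun hdec (n' : T)
      rw [Finset.sum_apply] at h1
      have h2 : (χ : G → ℂ) ((n' : T) : G)
          = ∑ ψ : IrrCharacter T, classInner (fun t : T => (χ : G → ℂ) t) (ψ : T → ℂ)
            * (ψ : T → ℂ) n' := by
        refine h1.trans ?_
        apply Finset.sum_congr rfl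
        intro ψ _
        rw [Pi.smul_apply, smul_eq_mul]
      rw [h2, Finset.sum_mul]
      apply Finset.sum_congr rfl
      intro ψ _
      ring
    rw [Finset.sum_congr rfl (fun n' _ => hpt n'), Finset.sum_comm]
    rw [Finset.sum_eq_zero, mul_zero]
    intro ψ _
    rw [← Finset.mul_sum]
    by_cases ha : classInner (fun t : T => (χ : G → ℂ) t) (ψ : T → ℂ) = 0
    · rw [ha, zero_mul]
    · have h3 : (Nat.card N' : ℂ)⁻¹ * ∑ n' : N', (ψ : T → ℂ) n' * conj ((ϑ' : N' → ℂ) n')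
          = 0 := hall ψ ha
      rcases mul_eq_zero.mp h3 with h4 | h4
      · exact absurd h4 (inv_ne_zero hN'0)
      · rw [h4, mul_zero]
  obtain ⟨f₀, hf₀, hresψ, hf₀'⟩ :=
    clifford_invariant N' (ϑ' : N' → ℂ) ϑ'.2 hinv' (ψ : T → ℂ) ψ.2 hψ2
  have hdvd := mult_dvd_index_of_invariant N' ψ ϑ' hinv' f₀ hf₀' hf₀
  have hres : ∀ n : N, (ψ : T → ℂ) ⟨n, hNT n.2⟩ = (f₀ : ℂ) * (ϑ : N → ℂ) n := by
    intro n
    obtain ⟨n', hn'⟩ := hfs n
    have h1 : (ψ : T → ℂ) n' = (f₀ : ℂ) * (ϑ' : N' → ℂ) n' := congrFun hresψ n'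
    rw [hϑ'a, hn'] at h1
    rw [← h1]
    refine congrArg _ ?_
    apply Subtype.ext
    show (n : G) = ((n' : T) : G)
    rw [← hf, hn']
  obtain ⟨χ', hχ'1, hχ'2⟩ := exists_irr_of_induced N ϑ T hT hNT ψ f₀ hf₀ hres
  have hχ'χ : χ' = χ := by
    by_contra hne
    have h1 := irr_classInner χ' χ
    rw [if_neg hne, ← hχ'1,
      frobenius_reciprocity T _ _ (isClassFunction_of_isCharacter (irr_isCharacter χ))] at h1
    apply hψ1
    rw [classInner_conj_symm (ψ : T → ℂ) (fun t : T => (χ : G → ℂ) t), h1, map_zero]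
  rw [hχ'χ] at hχ'2
  have hψdeg : charDegree (ψ : T → ℂ) = f₀ * charDegree (ϑ : N → ℂ) := by
    have h1 : (ψ : T → ℂ) 1 = (f₀ : ℂ) * (ϑ : N → ℂ) 1 := hres 1
    have h6 : ((charDegree (ψ : T → ℂ) : ℕ) : ℂ)
        = ((f₀ * charDegree (ϑ : N → ℂ) : ℕ) : ℂ) := by
      push_cast
      rw [← irr_one_eq_degree, ← irr_one_eq_degree]
      exact h1
    exact_mod_cast h6
  refine ⟨T.index * f₀, ?_, ?_⟩
  · rw [hχ'2, hψdeg, mul_assoc]
  · have h7 : N'.index * T.index = N.index := by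
      rw [hN']
      exact Subgroup.relIndex_mul_index hNT
    rw [← h7, mul_comm]
    exact Nat.mul_dvd_mul_right hdvd _

end General

end Cfsg.Agent.Helper7
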