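import Mathlib
import Cfsg.Agent.Helper7.CliffDeg
import Cfsg.Agent.Helper7.Brauer

/-!
# Invariant constituents on elementary subgroups (helper7)

* `sum_mod_eq_sum_fixed`: weighted fixed-point congruence for an action all of whose nontrivial
  orbits have size divisible by `p`.
* `conjIrr`, `conjActIrr`: conjugation action of `E` on `Irr(E ⊓ N)`.
* `exists_elementary_invariant`: for `G/N` a `p`-group and `ϑ ∈ Irr(N)` invariant, there are a
  `p`-elementary `E` with `EN = G` and an `E`-invariant `φ ∈ Irr(E ∩ N)` with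
  `p ∤ [ϑ_{E∩N}, φ]`.
-/

set_option autoImplicit false

namespace Cfsg.Agent.Helper7

open Cfsg Cfsg.Agent.Helper25 Cfsg.Agent.Helper2
open scoped ComplexConjugate

universe u

section Orbit

open Classical in
/-- Weighted fixed-point congruence, on invariant finite sets. -/
theorem sum_mod_eq_sum_fixed_aux {E X : Type*} [Group E] [MulAction E X] [DecidableEq X]
    (p : ℕ) (horb : ∀ x : X, (∃ g : E, g • x ≠ x) → p ∣ (MulAction.orbit E x).ncard)
    (f : X → ℕ) (hf : ∀ (g : E) (x : X), f (g • x) = f x) :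
    ∀ (n : ℕ) (S : Finset X), S.card = n → (∀ (g : E) (x : X), x ∈ S → g • x ∈ S) →
      (∑ x ∈ S, f x) % p = (∑ x ∈ S with ∀ g : E, g • x = x, f x) % p := by
  classical
  intro n
  induction n using Nat.strong_induction_on with
  | _ n ih =>
    intro S hS hinv
    by_cases hall : ∀ x ∈ S, ∀ g : E, g • x = x
    · rw [Finset.filter_true_of_mem hall]
    · push Not at hall
      obtain ⟨x, hxS, g₀, hg₀⟩ := hall
      obtain ⟨O, hO⟩ : ∃ O : Finset X, O = S.filter (fun y => y ∈ MulAction.orbit E x) :=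
        ⟨_, rfl⟩
      have hOmem : ∀ y, y ∈ O ↔ y ∈ MulAction.orbit E x := by
        intro y
        rw [hO, Finset.mem_filter]
        constructor
        · exact fun h => h.2
        · intro h
          refine ⟨?_, h⟩
          obtain ⟨g, rfl⟩ := h
          exact hinv g x hxS
      have hOcard : O.card = (MulAction.orbit E x).ncard := by
        rw [← Set.ncard_coe_finset O]
        congr 1
        ext y
        rw [Finset.mem_coe]
        exact hOmem y
      have hOsum : ∑ y ∈ O, f y = O.card * f x := by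
        rw [Finset.sum_congr rfl (g := fun _ => f x), Finset.sum_const, smul_eq_mul]
        intro y hy
        obtain ⟨g, rfl⟩ := (hOmem y).mp hy
        exact hf g x
      have hOS : O ⊆ S := by
        rw [hO]
        exact Finset.filter_subset _ _
      have hxO : x ∈ O := (hOmem x).mpr (MulAction.mem_orbit_self x)
      obtain ⟨S', hS'⟩ : ∃ S' : Finset X, S' = S \ O := ⟨_, rfl⟩
      have hS'inv : ∀ (g : E) (y : X), y ∈ S' → g • y ∈ S' := by
        intro g y hy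
        rw [hS', Finset.mem_sdiff] at hy ⊢
        refine ⟨hinv g y hy.1, fun h => hy.2 ?_⟩
        rw [hOmem] at h ⊢
        obtain ⟨g', hg'⟩ := h
        have hg'' : g' • x = g • y := hg'
        refine ⟨g⁻¹ * g', ?_⟩
        show (g⁻¹ * g') • x = y
        rw [mul_smul, hg'', inv_smul_smul]
      have hcard : S'.card < n := by
        rw [← hS, hS']
        exact Finset.card_lt_card (Finset.sdiff_ssubset hOS ⟨x, hxO⟩)
      have hih := ih S'.card hcard S' rfl hS'inv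
      have hsplit : ∑ y ∈ S, f y = ∑ y ∈ S', f y + ∑ y ∈ O, f y := by
        rw [hS', Finset.sum_sdiff hOS]
      have hfix : (S.filter fun y => ∀ g : E, g • y = y)
          = (S'.filter fun y => ∀ g : E, g • y = y) := by
        ext y
        rw [Finset.mem_filter, Finset.mem_filter, hS', Finset.mem_sdiff]
        constructor
        · rintro ⟨h1, h2⟩
          refine ⟨⟨h1, fun hyO => ?_⟩, h2⟩
          obtain ⟨g, hg⟩ := (hOmem y).mp hyO
          have hxy : x = y := by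
            have h3 := h2 g⁻¹
            rw [← hg, inv_smul_smul] at h3
            rw [← hg]
            exact h3
          rw [← hxy] at h2
          exact hg₀ (h2 g₀)
        · rintro ⟨⟨h1, _⟩, h2⟩
          exact ⟨h1, h2⟩
      rw [hsplit, hfix, hOsum, Nat.add_mod, hih]
      have hp : p ∣ O.card := by
        rw [hOcard]
        exact horb x ⟨g₀, hg₀⟩
      obtain ⟨c, hc⟩ := hp
      rw [hc, mul_assoc, Nat.mul_mod_right, add_zero, Nat.mod_mod]

open Classical in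
/-- Weighted fixed-point congruence. -/
theorem sum_mod_eq_sum_fixed {E X : Type*} [Group E] [MulAction E X] [Fintype X]
    [DecidableEq X] (p : ℕ)
    (horb : ∀ x : X, (∃ g : E, g • x ≠ x) → p ∣ (MulAction.orbit E x).ncard)
    (f : X → ℕ) (hf : ∀ (g : E) (x : X), f (g • x) = f x) :
    (∑ x, f x) % p = (∑ x with ∀ g : E, g • x = x, f x) % p :=
  sum_mod_eq_sum_fixed_aux p horb f hf _ Finset.univ rfl (fun _ _ _ => Finset.mem_univ _)

end Orbit

section ElemInv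

variable {G : Type u} [Group G]

/-- Conjugation by an element of `E` as an automorphism of `E ⊓ N`. -/
def conjInf (E N : Subgroup G) [hN : N.Normal] (g : E) : ↥(E ⊓ N) ≃* ↥(E ⊓ N) where
  toFun x := ⟨(g : G) * x * (g : G)⁻¹,
    ⟨E.mul_mem (E.mul_mem g.2 x.2.1) (E.inv_mem g.2), hN.conj_mem x x.2.2 g⟩⟩
  invFun x := ⟨(g : G)⁻¹ * x * (g : G),
    ⟨E.mul_mem (E.mul_mem (E.inv_mem g.2) x.2.1) g.2, by
      have h := hN.conj_mem x x.2.2 (g : G)⁻¹
      rwa [inv_inv] at h⟩⟩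
  left_inv x := by
    apply Subtype.ext
    simp [mul_assoc]
  right_inv x := by
    apply Subtype.ext
    simp [mul_assoc]
  map_mul' x y := by
    apply Subtype.ext
    simp [mul_assoc]

theorem conjInf_apply (E N : Subgroup G) [hN : N.Normal] (g : E) (x : ↥(E ⊓ N)) :
    ((conjInf E N g x : ↥(E ⊓ N)) : G) = (g : G) * x * (g : G)⁻¹ := rfl

theorem conjInf_symm_apply (E N : Subgroup G) [hN : N.Normal] (g : E) (x : ↥(E ⊓ N)) :
    (((conjInf E N g).symm x : ↥(E ⊓ N)) : G) = (g : G)⁻¹ * x * (g : G) := rfl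

/-- The conjugate of an irreducible character of `E ⊓ N` by an element of `E`. -/
def conjIrr (E N : Subgroup G) [hN : N.Normal] (g : E) (φ : IrrCharacter ↥(E ⊓ N)) :
    IrrCharacter ↥(E ⊓ N) :=
  ⟨fun x => (φ : ↥(E ⊓ N) → ℂ) ((conjInf E N g).symm x),
    isIrrCharacter_comp_of_surjective (conjInf E N g).symm.toMonoidHom
      (conjInf E N g).symm.surjective φ.2⟩

theorem conjIrr_apply (E N : Subgroup G) [hN : N.Normal] (g : E) (φ : IrrCharacter ↥(E ⊓ N))
    (x : ↥(E ⊓ N)) : (conjIrr E N g φ : ↥(E ⊓ N) → ℂ) x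
      = (φ : ↥(E ⊓ N) → ℂ) ((conjInf E N g).symm x) := rfl

/-- The conjugation action of `E` on the irreducible characters of `E ⊓ N`. -/
@[reducible] def conjActIrr (E N : Subgroup G) [hN : N.Normal] : MulAction E (IrrCharacter ↥(E ⊓ N)) where
  smul := conjIrr E N
  one_smul φ := by
    apply Subtype.ext
    funext x
    show (φ : ↥(E ⊓ N) → ℂ) ((conjInf E N 1).symm x) = (φ : ↥(E ⊓ N) → ℂ) x
    refine congrArg _ ?_
    apply Subtype.ext
    rw [conjInf_symm_apply]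
    simp
  mul_smul g h φ := by
    apply Subtype.ext
    funext x
    show (φ : ↥(E ⊓ N) → ℂ) ((conjInf E N (g * h)).symm x)
      = (φ : ↥(E ⊓ N) → ℂ) ((conjInf E N h).symm ((conjInf E N g).symm x))
    refine congrArg _ ?_
    apply Subtype.ext
    rw [conjInf_symm_apply, conjInf_symm_apply, conjInf_symm_apply]
    simp [mul_assoc]

/-- Inner products with conjugation-invariant functions are constant on orbits. -/
theorem classInner_conjIrr (E N : Subgroup G) [hN : N.Normal] [Fintype ↥(E ⊓ N)]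
    (α : ↥(E ⊓ N) → ℂ) (hα : ∀ (g : E) (x : ↥(E ⊓ N)), α (conjInf E N g x) = α x) (g : E)
    (φ : IrrCharacter ↥(E ⊓ N)) :
    classInner α (conjIrr E N g φ : ↥(E ⊓ N) → ℂ) = classInner α (φ : ↥(E ⊓ N) → ℂ) := by
  show (Nat.card ↥(E ⊓ N) : ℂ)⁻¹ * ∑ x : ↥(E ⊓ N), α x
      * conj ((conjIrr E N g φ : ↥(E ⊓ N) → ℂ) x)
    = (Nat.card ↥(E ⊓ N) : ℂ)⁻¹ * ∑ x : ↥(E ⊓ N), α x * conj ((φ : ↥(E ⊓ N) → ℂ) x)
  congr 1
  rw [← Equiv.sum_comp (conjInf E N g).toEquiv
    (fun x => α x * conj ((conjIrr E N g φ : ↥(E ⊓ N) → ℂ) x))]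
  apply Finset.sum_congr rfl
  intro x _
  show α (conjInf E N g x) * conj ((φ : ↥(E ⊓ N) → ℂ) ((conjInf E N g).symm (conjInf E N g x)))
    = _
  rw [hα, MulEquiv.symm_apply_apply]

/-- The weighted sum of an induced function against an invariant weight on a normal
subgroup. -/
theorem sum_indFun_weight [Fintype G] (N : Subgroup G) [hN : N.Normal] [Fintype N]
    (E : Subgroup G) [Fintype ↥(E ⊓ N)] (φE : E → ℂ) (w : N → ℂ)
    (hw : ∀ (g : G) (n : N), w ⟨g * n * g⁻¹, hN.conj_mem (n : G) n.2 g⟩ = w n) :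
    (Nat.card N : ℂ)⁻¹ * ∑ n : N, indFun E φE n * w n
      = ((E ⊔ N).index : ℂ) * ((Nat.card ↥(E ⊓ N) : ℂ)⁻¹
        * ∑ x : ↥(E ⊓ N), φE ⟨x, x.2.1⟩ * w ⟨x, x.2.2⟩) := by
  classical
  have hS : ∀ x : G, ∑ n : N, extendByZero E φE (x⁻¹ * (n : G) * x) * w n
      = ∑ n : N, extendByZero E φE (n : G) * w n := by
    intro x
    rw [← Equiv.sum_comp (MulAut.conjNormal x⁻¹ : N ≃* N).toEquiv
      (fun n : N => extendByZero E φE (n : G) * w n)]
    apply Finset.sum_congr rfl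
    intro n _
    show _ = extendByZero E φE (((MulAut.conjNormal x⁻¹ : N ≃* N) n : N) : G)
      * w ((MulAut.conjNormal x⁻¹ : N ≃* N) n)
    have h1 : (((MulAut.conjNormal x⁻¹ : N ≃* N) n : N) : G) = x⁻¹ * n * x := by
      rw [MulAut.conjNormal_apply, inv_inv]
    have h2 : w ((MulAut.conjNormal x⁻¹ : N ≃* N) n) = w n := by
      rw [← hw x⁻¹ n]
      refine congrArg _ ?_
      apply Subtype.ext
      exact MulAut.conjNormal_apply x⁻¹ n
    rw [h1, h2]
  have hD : ∑ n : N, extendByZero E φE (n : G) * w n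
      = ∑ x : ↥(E ⊓ N), φE ⟨x, x.2.1⟩ * w ⟨x, x.2.2⟩ := by
    symm
    apply Fintype.sum_of_injective (fun x : ↥(E ⊓ N) => (⟨x, x.2.2⟩ : N))
    · intro a b hab
      apply Subtype.ext
      exact congrArg (fun n : N => (n : G)) hab
    · intro n hn
      have hnE : (n : G) ∉ E := fun h => hn ⟨⟨n, ⟨h, n.2⟩⟩, rfl⟩
      rw [extendByZero_of_not_mem E _ hnE, zero_mul]
    · intro x
      show _ = extendByZero E φE (x : G) * w ⟨x, x.2.2⟩
      rw [extendByZero_of_mem E _ x.2.1]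
  have h1 : ∑ n : N, indFun E φE n * w n = (Nat.card E : ℂ)⁻¹
      * ((Nat.card G : ℂ) * ∑ x : ↥(E ⊓ N), φE ⟨x, x.2.1⟩ * w ⟨x, x.2.2⟩) := by
    have h2 : ∀ n : N, indFun E φE n * w n = (Nat.card E : ℂ)⁻¹
        * ∑ x : G, extendByZero E φE (x⁻¹ * (n : G) * x) * w n := by
      intro n
      rw [indFun_apply, mul_assoc, Finset.sum_mul]
    rw [Finset.sum_congr rfl (fun n _ => h2 n), ← Finset.mul_sum, Finset.sum_comm,
      Finset.sum_congr rfl (fun x _ => hS x), Finset.sum_const, Finset.card_univ, nsmul_eq_mul,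
      hD, ← Nat.card_eq_fintype_card]
  have hconst : (Nat.card G : ℂ) * (Nat.card ↥(E ⊓ N) : ℂ)
      = ((E ⊔ N).index : ℂ) * (Nat.card N : ℂ) * (Nat.card E : ℂ) := by
    have e1 : N.relIndex E * (E ⊔ N).index = N.index := by
      rw [← Subgroup.relIndex_sup_right (H := E) (K := N)]
      exact Subgroup.relIndex_mul_index le_sup_right
    have e2 : N.relIndex E * E.index = (E ⊓ N).index := by
      rw [← Subgroup.inf_relIndex_left (H := E) (K := N)]
      exact Subgroup.relIndex_mul_index inf_le_left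
    have e3 := Subgroup.card_mul_index N
    have e4 := Subgroup.card_mul_index E
    have e5 := Subgroup.card_mul_index (E ⊓ N)
    have hr : 0 < N.relIndex E * E.index := by
      rw [e2]
      exact Nat.pos_of_ne_zero Subgroup.index_ne_zero_of_finite
    have h3 : Nat.card G * Nat.card ↥(E ⊓ N) = (E ⊔ N).index * Nat.card N * Nat.card E := by
      apply Nat.eq_of_mul_eq_mul_right hr
      calc Nat.card G * Nat.card ↥(E ⊓ N) * (N.relIndex E * E.index)
          = Nat.card G * (Nat.card ↥(E ⊓ N) * (E ⊓ N).index) := by rw [← e2, mul_assoc]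
        _ = Nat.card G * Nat.card G := by rw [e5]
        _ = (Nat.card N * N.index) * (Nat.card E * E.index) := by rw [e3, e4]
        _ = _ := by
          rw [← e1]
          ring
    exact_mod_cast h3
  have hN0 : (Nat.card N : ℂ) ≠ 0 := Nat.cast_ne_zero.mpr Nat.card_pos.ne'
  have hE0 : (Nat.card E : ℂ) ≠ 0 := Nat.cast_ne_zero.mpr Nat.card_pos.ne'
  have hD0 : (Nat.card ↥(E ⊓ N) : ℂ) ≠ 0 := Nat.cast_ne_zero.mpr Nat.card_pos.ne'
  have hc2 : (Nat.card N : ℂ)⁻¹ * (Nat.card E : ℂ)⁻¹ * (Nat.card G : ℂ)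
      = ((E ⊔ N).index : ℂ) * (Nat.card ↥(E ⊓ N) : ℂ)⁻¹ := by
    rw [eq_mul_inv_iff_mul_eq₀ hD0, mul_assoc, hconst]
    field_simp
  rw [h1, ← mul_assoc, ← mul_assoc, hc2, mul_assoc]

/-- For `G/N` a `p`-group and `ϑ ∈ Irr(N)` invariant in `G`, there are a `p`-elementary
subgroup `E` with `EN = G` and an `E`-invariant `φ ∈ Irr(E ∩ N)` with `p ∤ [ϑ_{E∩N}, φ]`. -/
theorem exists_elementary_invariant [Fintype G] (p : ℕ) (hp : p.Prime) (N : Subgroup G)
    [hN : N.Normal] (hind : ∃ k : ℕ, N.index = p ^ k) (ϑ : N → ℂ) (hϑ : IsIrrCharacter N ϑ)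
    (hinv : ∀ (g : G) (n : N), ϑ ⟨g * n * g⁻¹, hN.conj_mem (n : G) n.2 g⟩ = ϑ n) :
    ∃ (E : Subgroup G) (φ : ↥(E ⊓ N) → ℂ), IsElementary p E ∧ E ⊔ N = ⊤ ∧
      IsIrrCharacter ↥(E ⊓ N) φ ∧
      (∀ (g : G) (hg : g ∈ E) (x : ↥(E ⊓ N)),
        φ ⟨g * x * g⁻¹, ⟨(E.mul_mem (E.mul_mem hg x.2.1) (E.inv_mem hg)),
          hN.conj_mem (x : G) x.2.2 g⟩⟩ = φ x) ∧
      ∃ m : ℕ, ¬ p ∣ m ∧ (Nat.card ↥(E ⊓ N) : ℂ)⁻¹
        * ∑ᶠ x : ↥(E ⊓ N), ϑ ⟨(x : G), x.2.2⟩ * conj (φ x) = (m : ℂ) := by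
  classical
  obtain ⟨m, hpm, hmem⟩ := brauer_p (G := G) p hp
  obtain ⟨l, hl, hsum⟩ := list_of_mem_Vp p _ hmem
  obtain ⟨w, hw⟩ : ∃ w : N → ℂ, ∀ n, w n = ϑ n * conj (ϑ n) := ⟨_, fun _ => rfl⟩
  have hwinv : ∀ (g : G) (n : N), w ⟨g * n * g⁻¹, hN.conj_mem (n : G) n.2 g⟩ = w n := by
    intro g n
    rw [hw, hw, hinv]
  obtain ⟨Φ, hΦ⟩ : ∃ Φ : (G → ℂ) → ℂ,
      ∀ f, Φ f = (Nat.card N : ℂ)⁻¹ * ∑ n : N, f n * w n := ⟨_, fun _ => rfl⟩
  have hΦadd : ∀ f g : G → ℂ, Φ (f + g) = Φ f + Φ g := by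
    intro f g
    rw [hΦ, hΦ, hΦ, ← mul_add, ← Finset.sum_add_distrib]
    congr 1
    apply Finset.sum_congr rfl
    intro n _
    rw [Pi.add_apply, add_mul]
  have hΦsmul : ∀ (c : ℂ) (f : G → ℂ), Φ (c • f) = c * Φ f := by
    intro c f
    rw [hΦ, hΦ, mul_left_comm]
    congr 1
    rw [Finset.mul_sum]
    apply Finset.sum_congr rfl
    intro n _
    rw [Pi.smul_apply, smul_eq_mul, mul_assoc]
  have hΦ0 : Φ 0 = 0 := by
    rw [hΦ]
    simp
  have hΦlist : ∀ l' : List ((E : Subgroup G) × ((E → ℂ) × ℤ)),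
      Φ ((l'.map fun t => (t.2.2 : ℂ) • indFun t.1 t.2.1).sum)
        = (l'.map fun t => (t.2.2 : ℂ) * Φ (indFun t.1 t.2.1)).sum := by
    intro l'
    induction l' with
    | nil => rw [List.map_nil, List.sum_nil, List.map_nil, List.sum_nil, hΦ0]
    | cons t l' ih =>
      rw [List.map_cons, List.sum_cons, hΦadd, hΦsmul, ih, List.map_cons, List.sum_cons]
  have hΦm : Φ (fun _ => (m : ℂ)) = m := by
    rw [hΦ]
    have h1 : classInner ϑ ϑ = 1 := by
      have h0 := irr_classInner (⟨ϑ, hϑ⟩ : IrrCharacter N) ⟨ϑ, hϑ⟩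
      rwa [if_pos rfl] at h0
    have h2 : ∑ n : N, (m : ℂ) * w n = (m : ℂ) * ∑ n : N, ϑ n * conj (ϑ n) := by
      rw [Finset.mul_sum]
      apply Finset.sum_congr rfl
      intro n _
      rw [hw]
    rw [h2, mul_left_comm]
    have h3 : (Nat.card N : ℂ)⁻¹ * ∑ n : N, ϑ n * conj (ϑ n) = 1 := h1
    rw [h3, mul_one]
  have hex : ∃ t ∈ l, ¬ ∃ k : ℤ, Φ (indFun t.1 t.2.1) = (p : ℂ) * k := by
    by_contra hall
    push Not at hall
    have hdiv : ∀ l' : List ((E : Subgroup G) × ((E → ℂ) × ℤ)),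
        (∀ t ∈ l', ∃ k : ℤ, Φ (indFun t.1 t.2.1) = (p : ℂ) * k) →
        ∃ k : ℤ, (l'.map fun t => (t.2.2 : ℂ) * Φ (indFun t.1 t.2.1)).sum = (p : ℂ) * k := by
      intro l'
      induction l' with
      | nil =>
        intro _
        exact ⟨0, by rw [List.map_nil, List.sum_nil, Int.cast_zero, mul_zero]⟩
      | cons t l' ih =>
        intro h
        obtain ⟨k1, hk1⟩ := h t List.mem_cons_self
        obtain ⟨k2, hk2⟩ := ih (fun t' ht' => h t' (List.mem_cons_of_mem _ ht'))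
        refine ⟨t.2.2 * k1 + k2, ?_⟩
        rw [List.map_cons, List.sum_cons, hk1, hk2]
        push_cast
        ring
    obtain ⟨k, hk⟩ := hdiv l hall
    have h4 : (m : ℂ) = (p : ℂ) * k := by
      rw [← hΦm, hsum, hΦlist, hk]
    apply hpm
    exact ⟨k, by exact_mod_cast h4⟩
  obtain ⟨⟨E, φE, c⟩, ht, hnd⟩ := hex
  have hEel : IsElementary p E := (hl _ ht).1
  have hφE : IsCharacter E φE := (hl _ ht).2
  have hnd' : ¬ ∃ k : ℤ, Φ (indFun E φE) = (p : ℂ) * k := hnd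
  have hval : Φ (indFun E φE) = ((E ⊔ N).index : ℂ) * ((Nat.card ↥(E ⊓ N) : ℂ)⁻¹
      * ∑ x : ↥(E ⊓ N), φE ⟨x, x.2.1⟩ * w ⟨x, x.2.2⟩) := by
    rw [hΦ]
    exact sum_indFun_weight N E φE w hwinv
  obtain ⟨α, hα⟩ : ∃ α : ↥(E ⊓ N) → ℂ, ∀ x, α x = φE ⟨x, x.2.1⟩ * ϑ ⟨x, x.2.2⟩ :=
    ⟨_, fun _ => rfl⟩
  obtain ⟨ϑD, hϑD⟩ : ∃ ϑD : ↥(E ⊓ N) → ℂ, ∀ x, ϑD x = ϑ ⟨x, x.2.2⟩ := ⟨_, fun _ => rfl⟩
  have hϑDc : IsCharacter ↥(E ⊓ N) ϑD := by
    have h1 := isCharacter_comp (Subgroup.inclusion (inf_le_right : E ⊓ N ≤ N))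
      (isCharacter_of_isIrrCharacter hϑ)
    have h2 : ϑD = fun x => ϑ (Subgroup.inclusion (inf_le_right : E ⊓ N ≤ N) x) := by
      funext x
      rw [hϑD]
      rfl
    rw [h2]
    exact h1
  have hαc : IsCharacter ↥(E ⊓ N) α := by
    have h1 := isCharacter_comp (Subgroup.inclusion (inf_le_left : E ⊓ N ≤ E)) hφE
    have h2 : α = (fun x => φE (Subgroup.inclusion (inf_le_left : E ⊓ N ≤ E) x)) * ϑD := by
      funext x
      rw [Pi.mul_apply, hα, hϑD]
      rfl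
    rw [h2]
    exact isCharacter_mul h1 hϑDc
  obtain ⟨j, hj⟩ := classInner_char_nat hαc hϑDc
  have hJ : (Nat.card ↥(E ⊓ N) : ℂ)⁻¹ * ∑ x : ↥(E ⊓ N), φE ⟨x, x.2.1⟩ * w ⟨x, x.2.2⟩ = j := by
    rw [← hj]
    show _ = (Nat.card ↥(E ⊓ N) : ℂ)⁻¹ * ∑ x : ↥(E ⊓ N), α x * conj (ϑD x)
    congr 1
    apply Finset.sum_congr rfl
    intro x _
    rw [hw, hα, hϑD, mul_assoc]
  rw [hJ] at hval
  have hndj : ¬ p ∣ (E ⊔ N).index * j := by
    rintro ⟨k, hk⟩
    apply hnd'
    refine ⟨k, ?_⟩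
    rw [hval, ← Nat.cast_mul, hk]
    push_cast
    rfl
  have hnd1 : ¬ p ∣ (E ⊔ N).index := fun h => hndj (Dvd.dvd.mul_right h _)
  have hnd2 : ¬ p ∣ j := fun h => hndj (Dvd.dvd.mul_left h _)
  have hEN : E ⊔ N = ⊤ := by
    obtain ⟨k, hk⟩ := hind
    have h1 : (E ⊔ N).index ∣ p ^ k := by
      rw [← hk]
      exact Subgroup.index_dvd_of_le le_sup_right
    obtain ⟨i, _, hi⟩ := (Nat.dvd_prime_pow hp).mp h1
    rw [hi] at hnd1
    have hi0 : i = 0 := by
      by_contra h0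
      exact hnd1 (dvd_pow_self p h0)
    rw [hi0, pow_zero] at hi
    exact Subgroup.index_eq_one.mp hi
  have hdec := classFun_eq_sum_classInner (isClassFunction_of_isCharacter hϑDc)
  have ha : ∀ φ : IrrCharacter ↥(E ⊓ N), ∃ a : ℕ, classInner ϑD (φ : ↥(E ⊓ N) → ℂ) = a :=
    fun φ => classInner_char_nat hϑDc (irr_isCharacter φ)
  choose a ha using ha
  have hb : ∀ φ : IrrCharacter ↥(E ⊓ N), ∃ b : ℕ, classInner α (φ : ↥(E ⊓ N) → ℂ) = b :=
    fun φ => classInner_char_nat hαc (irr_isCharacter φ)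
  choose b hb using hb
  have hjsum : j = ∑ φ : IrrCharacter ↥(E ⊓ N), a φ * b φ := by
    have h1 : (j : ℂ) = ((∑ φ : IrrCharacter ↥(E ⊓ N), a φ * b φ : ℕ) : ℂ) := by
      rw [← hj]
      push_cast
      show (Nat.card ↥(E ⊓ N) : ℂ)⁻¹ * ∑ x : ↥(E ⊓ N), α x * conj (ϑD x) = _
      have hpt : ∀ x : ↥(E ⊓ N), α x * conj (ϑD x)
          = ∑ φ : IrrCharacter ↥(E ⊓ N),
            (a φ : ℂ) * (α x * conj ((φ : ↥(E ⊓ N) → ℂ) x)) := by
        intro x
        have h2 := congrFun hdec x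
        rw [Finset.sum_apply] at h2
        have h3 : ϑD x = ∑ φ : IrrCharacter ↥(E ⊓ N),
            (a φ : ℂ) * (φ : ↥(E ⊓ N) → ℂ) x := by
          refine h2.trans ?_
          apply Finset.sum_congr rfl
          intro φ _
          rw [Pi.smul_apply, smul_eq_mul, ha]
        rw [h3, map_sum, Finset.mul_sum]
        apply Finset.sum_congr rfl
        intro φ _
        rw [map_mul, Complex.conj_natCast]
        ring
      rw [Finset.sum_congr rfl (fun x _ => hpt x), Finset.sum_comm, Finset.mul_sum]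
      apply Finset.sum_congr rfl
      intro φ _
      rw [← hb φ, ← Finset.mul_sum, mul_left_comm]
      rfl
    exact_mod_cast h1
  letI : MulAction E (IrrCharacter ↥(E ⊓ N)) := conjActIrr E N
  have hsmul : ∀ (g : E) (φ : IrrCharacter ↥(E ⊓ N)), g • φ = conjIrr E N g φ :=
    fun _ _ => rfl
  have hαinv : ∀ (g : E) (x : ↥(E ⊓ N)), α (conjInf E N g x) = α x := by
    intro g x
    rw [hα, hα]
    have h1 : φE ⟨(conjInf E N g x : ↥(E ⊓ N)), (conjInf E N g x).2.1⟩ = φE ⟨x, x.2.1⟩ := by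
      have h2 := isClassFunction_of_isCharacter hφE ⟨x, x.2.1⟩ g
      rw [← h2]
      refine congrArg _ ?_
      apply Subtype.ext
      rfl
    have h3 : ϑ ⟨(conjInf E N g x : ↥(E ⊓ N)), (conjInf E N g x).2.2⟩ = ϑ ⟨x, x.2.2⟩ := by
      rw [← hinv g ⟨x, x.2.2⟩]
      refine congrArg _ ?_
      apply Subtype.ext
      rfl
    rw [h1, h3]
  have hϑDinv : ∀ (g : E) (x : ↥(E ⊓ N)), ϑD (conjInf E N g x) = ϑD x := by
    intro g x
    rw [hϑD, hϑD, ← hinv g ⟨x, x.2.2⟩]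
    refine congrArg _ ?_
    apply Subtype.ext
    rfl
  have hfinv : ∀ (g : E) (φ : IrrCharacter ↥(E ⊓ N)),
      a (g • φ) * b (g • φ) = a φ * b φ := by
    intro g φ
    have h1 : a (g • φ) = a φ := by
      have h2 := classInner_conjIrr E N ϑD hϑDinv g φ
      rw [← hsmul, ha, ha] at h2
      exact_mod_cast h2
    have h3 : b (g • φ) = b φ := by
      have h2 := classInner_conjIrr E N α hαinv g φ
      rw [← hsmul, hb, hb] at h2
      exact_mod_cast h2
    rw [h1, h3]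
  have horb : ∀ φ : IrrCharacter ↥(E ⊓ N), (∃ g : E, g • φ ≠ φ) →
      p ∣ (MulAction.orbit E φ).ncard := by
    intro φ hφ
    rw [← MulAction.index_stabilizer]
    have hle : N.subgroupOf E ≤ MulAction.stabilizer E φ := by
      intro d hd
      rw [MulAction.mem_stabilizer_iff, hsmul]
      apply Subtype.ext
      funext x
      rw [conjIrr_apply]
      have hdD : (d : G) ∈ E ⊓ N := ⟨d.2, Subgroup.mem_subgroupOf.mp hd⟩
      have h1 := isClassFunction_of_isCharacter (irr_isCharacter φ) x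
        (⟨d, hdD⟩ : ↥(E ⊓ N))⁻¹
      rw [← h1]
      refine congrArg _ ?_
      apply Subtype.ext
      rw [conjInf_symm_apply]
      simp
    have h1 : (MulAction.stabilizer E φ).index ∣ (N.subgroupOf E).index :=
      Subgroup.index_dvd_of_le hle
    obtain ⟨k, hk⟩ := hind
    have h2 : (N.subgroupOf E).index ∣ p ^ k := by
      rw [← hk]
      exact Subgroup.relIndex_dvd_index_of_normal N E
    obtain ⟨i, _, hi⟩ := (Nat.dvd_prime_pow hp).mp (h1.trans h2)
    rw [hi]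
    have hi0 : i ≠ 0 := by
      rintro rfl
      rw [pow_zero] at hi
      have htop := Subgroup.index_eq_one.mp hi
      obtain ⟨g, hg⟩ := hφ
      apply hg
      have hgs : g ∈ MulAction.stabilizer E φ := by
        rw [htop]
        exact Subgroup.mem_top g
      exact MulAction.mem_stabilizer_iff.mp hgs
    exact dvd_pow_self p hi0
  have hcong := sum_mod_eq_sum_fixed p horb (fun φ => a φ * b φ) hfinv
  rw [← hjsum] at hcong
  obtain ⟨φ, hφfix, hφnd⟩ : ∃ φ : IrrCharacter ↥(E ⊓ N),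
      (∀ g : E, g • φ = φ) ∧ ¬ p ∣ a φ * b φ := by
    by_contra hall
    push Not at hall
    apply hnd2
    rw [Nat.dvd_iff_mod_eq_zero, hcong, ← Nat.dvd_iff_mod_eq_zero]
    apply Finset.dvd_sum
    intro φ hφ
    exact hall φ ((@Finset.mem_filter _ _ (fun _ => Classical.propDecidable _) _ _).mp hφ).2
  refine ⟨E, (φ : ↥(E ⊓ N) → ℂ), hEel, hEN, φ.2, ?_, a φ,
    fun h => hφnd (Dvd.dvd.mul_right h _), ?_⟩
  · intro g hg x
    have h1 := hφfix (⟨g, hg⟩⁻¹ : E)
    rw [hsmul] at h1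
    have h2 : (conjIrr E N (⟨g, hg⟩⁻¹ : E) φ : ↥(E ⊓ N) → ℂ) x = (φ : ↥(E ⊓ N) → ℂ) x := by
      rw [h1]
    rw [conjIrr_apply] at h2
    rw [← h2]
    refine congrArg _ ?_
    apply Subtype.ext
    rw [conjInf_symm_apply]
    simp
  · rw [finsum_eq_sum_of_fintype, ← ha φ]
    show _ = (Nat.card ↥(E ⊓ N) : ℂ)⁻¹
      * ∑ x : ↥(E ⊓ N), ϑD x * conj ((φ : ↥(E ⊓ N) → ℂ) x)
    congr 1
    apply Finset.sum_congr rfl
    intro x _
    rw [hϑD]

end ElemInv

end Cfsg.Agent.Helper7
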