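import Mathlib
import Cfsg.Agent.Helper7.CliffDeg
import Cfsg.Agent.Helper1.CharEquiv

/-!
# Extending an invariant character from Sylow-type overgroups (helper7)

Transfer argument in the finite central extension `extGroup N Θ (Nat.card N)`:
if an invariant `ϑ ∈ Irr(N)` extends to subgroups `P ≥ N` whose indices have no common prime
divisor, then `ϑ` extends to `G`.
-/

set_option autoImplicit false

namespace Cfsg.Agent.Helper7

open Cfsg Cfsg.Agent.Helper25 Cfsg.Agent.Helper2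
open scoped ComplexConjugate

universe u

section ExtSyl

variable {G : Type u} [Group G] {d : ℕ}

/-- Scalars are determined by their action on a unit. -/
theorem smul_unit_inj (hd : 0 < d) (a : (EV d)ˣ) (c c' : ℂ)
    (h : c • (a : EV d) = c' • (a : EV d)) : c = c' := by
  haveI : Nonempty (Fin d) := ⟨⟨0, hd⟩⟩
  have h1 : (c - c') • (a : EV d) = 0 := by
    have h0 := sub_smul c c' (a : EV d)
    rw [h0, h, sub_self]
  rcases smul_eq_zero.mp h1 with h2 | h2
  · exact sub_eq_zero.mp h2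
  · exact absurd h2 a.ne_zero

/-- Two units implementing the same twist of an irreducible representation differ by a
scalar. -/
theorem scalar_of_twist (N : Subgroup G) (Θ : Representation ℂ N (Fin d → ℂ))
    [Θ.IsIrreducible] (g : G) (a b : (EV d)ˣ)
    (ha : ∀ n n' : N, (n' : G) = g * n * g⁻¹ → (a : EV d) * Θ n = Θ n' * (a : EV d))
    (hb : ∀ n n' : N, (n' : G) = g * n * g⁻¹ → (b : EV d) * Θ n = Θ n' * (b : EV d))
    (hg : ∀ n : N, g * n * g⁻¹ ∈ N) :
    ∃ c : ℂ, (a : EV d) = c • (b : EV d) := by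
  have hT : ∀ n : N, (((b⁻¹ : (EV d)ˣ) : EV d) * (a : EV d)) ∘ₗ Θ n
      = Θ n ∘ₗ (((b⁻¹ : (EV d)ˣ) : EV d) * (a : EV d)) := by
    intro n
    show (((b⁻¹ : (EV d)ˣ) : EV d) * (a : EV d)) * Θ n
      = Θ n * (((b⁻¹ : (EV d)ˣ) : EV d) * (a : EV d))
    have h1 := ha n ⟨g * n * g⁻¹, hg n⟩ rfl
    have h2 := hb n ⟨g * n * g⁻¹, hg n⟩ rfl
    obtain ⟨X, hX⟩ : ∃ X : EV d, X = Θ ⟨g * n * g⁻¹, hg n⟩ := ⟨_, rfl⟩
    rw [← hX] at h1 h2
    calc (((b⁻¹ : (EV d)ˣ) : EV d) * (a : EV d)) * Θ n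
        = ((b⁻¹ : (EV d)ˣ) : EV d) * (X * (b : EV d))
            * (((b⁻¹ : (EV d)ˣ) : EV d) * (a : EV d)) := by
          rw [mul_assoc, h1, mul_assoc, mul_assoc, Units.mul_inv_cancel_left]
      _ = ((b⁻¹ : (EV d)ˣ) : EV d) * ((b : EV d) * Θ n)
            * (((b⁻¹ : (EV d)ˣ) : EV d) * (a : EV d)) := by rw [h2]
      _ = _ := by rw [← mul_assoc ((b⁻¹ : (EV d)ˣ) : EV d), Units.inv_mul, one_mul]
  obtain ⟨c, hc⟩ := Helper1.exists_scalar_of_commute Θ _ hT
  refine ⟨c, ?_⟩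
  have h3 : (b : EV d) * (((b⁻¹ : (EV d)ˣ) : EV d) * (a : EV d)) = (a : EV d) := by
    rw [← mul_assoc, Units.mul_inv, one_mul]
  rw [← h3, hc]
  show (b : EV d) * (c • (1 : EV d)) = c • (b : EV d)
  rw [mul_smul_comm, mul_one]

/-- The twisting relation satisfied by the elements of the extension group. -/
theorem extGroup_twist (N : Subgroup G) [hN : N.Normal] (Θ : Representation ℂ N (Fin d → ℂ))
    (k : ℕ) (x : G × (EV d)ˣ) (hx : x ∈ extGroup N Θ k) (g : G) (hg : x.1 = g) (n n' : N)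
    (hn : (n' : G) = g * n * g⁻¹) : (x.2 : EV d) * Θ n = Θ n' * (x.2 : EV d) := by
  subst hg
  have h1 : n' = ⟨x.1 * n * x.1⁻¹, hN.conj_mem n n.2 x.1⟩ := Subtype.ext hn
  rw [h1]
  exact hx.1 n

/-- The projection of the extension group onto `G`. -/
def extProj (N : Subgroup G) [hN : N.Normal] (Θ : Representation ℂ N (Fin d → ℂ)) (k : ℕ) :
    extGroup N Θ k →* G :=
  (MonoidHom.fst G (EV d)ˣ).comp (extGroup N Θ k).subtype

theorem extProj_apply (N : Subgroup G) [hN : N.Normal] (Θ : Representation ℂ N (Fin d → ℂ))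
    (k : ℕ) (x : extGroup N Θ k) : extProj N Θ k x = (x : G × (EV d)ˣ).1 := rfl

theorem extProj_surjective (N : Subgroup G) [hN : N.Normal] [Fintype N]
    (Θ : Representation ℂ N (Fin d → ℂ)) [hΘ : Θ.IsIrreducible] (k : ℕ) (hk : 0 < d * k)
    (hinv : ∀ (g : G) (n : N),
      Θ.character ⟨g * n * g⁻¹, hN.conj_mem n n.2 g⟩ = Θ.character n) :
    Function.Surjective (extProj N Θ k) := by
  intro g
  obtain ⟨x, hx, hxg⟩ := extGroup_exists N Θ k hk hinv g
  exact ⟨⟨x, hx⟩, hxg⟩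

theorem extIncl_fst (N : Subgroup G) [hN : N.Normal] (Θ : Representation ℂ N (Fin d → ℂ))
    (n : N) : ((extIncl N Θ n : extGroup N Θ (Nat.card N)) : G × (EV d)ˣ).1 = (n : G) := rfl

theorem extIncl_snd (N : Subgroup G) [hN : N.Normal] (Θ : Representation ℂ N (Fin d → ℂ))
    (n : N) :
    (((extIncl N Θ n : extGroup N Θ (Nat.card N)) : G × (EV d)ˣ).2 : EV d) = Θ n :=
  Representation.asGroupHom_apply Θ n

/-- Elements of the extension group are determined by their two components. -/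
theorem extGroup_ext (N : Subgroup G) [hN : N.Normal] (Θ : Representation ℂ N (Fin d → ℂ))
    (k : ℕ) (x y : extGroup N Θ k) (h1 : (x : G × (EV d)ˣ).1 = (y : G × (EV d)ˣ).1)
    (h2 : ((x : G × (EV d)ˣ).2 : EV d) = ((y : G × (EV d)ˣ).2 : EV d)) : x = y :=
  Subtype.ext (Prod.ext h1 (Units.ext h2))

/-- Conjugates of elements of the embedded copy of `N`. -/
theorem extIncl_conj (N : Subgroup G) [hN : N.Normal] (Θ : Representation ℂ N (Fin d → ℂ))
    (x : extGroup N Θ (Nat.card N)) (n n' : N)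
    (hn : (n' : G) = (x : G × (EV d)ˣ).1 * n * ((x : G × (EV d)ˣ).1)⁻¹) :
    x * extIncl N Θ n * x⁻¹ = extIncl N Θ n' := by
  apply extGroup_ext
  · show (x : G × (EV d)ˣ).1 * ((extIncl N Θ n : extGroup N Θ (Nat.card N)) : G × (EV d)ˣ).1
      * ((x : G × (EV d)ˣ).1)⁻¹ = ((extIncl N Θ n' : extGroup N Θ (Nat.card N)) : G × (EV d)ˣ).1
    rw [extIncl_fst, extIncl_fst, hn]
  · show ((x : G × (EV d)ˣ).2 : EV d)
        * (((extIncl N Θ n : extGroup N Θ (Nat.card N)) : G × (EV d)ˣ).2 : EV d)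
        * ((((x : G × (EV d)ˣ).2)⁻¹ : (EV d)ˣ) : EV d)
      = (((extIncl N Θ n' : extGroup N Θ (Nat.card N)) : G × (EV d)ˣ).2 : EV d)
    rw [extIncl_snd, extIncl_snd, extGroup_twist N Θ _ x x.2 _ rfl n n' hn, mul_assoc,
      Units.mul_inv, mul_one]

/-- `μ` is a linear character of the extension group inverting the `m`-th power of the scalar
by which the elements over `N` differ from `Θ`. -/
def IsExtMult (N : Subgroup G) [hN : N.Normal] (Θ : Representation ℂ N (Fin d → ℂ)) (m : ℤ)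
    (μ : extGroup N Θ (Nat.card N) →* ℂˣ) : Prop :=
  ∀ (x : extGroup N Θ (Nat.card N)) (n : N) (c : ℂˣ), (x : G × (EV d)ˣ).1 = (n : G) →
    ((x : G × (EV d)ˣ).2 : EV d) = (c : ℂ) • Θ n → μ x * c ^ m = 1

/-- The integers `m` for which a multiplier exists. -/
def extMults (N : Subgroup G) [hN : N.Normal] (Θ : Representation ℂ N (Fin d → ℂ)) :
    AddSubgroup ℤ where
  carrier := {m | ∃ μ, IsExtMult N Θ m μ}
  zero_mem' := ⟨1, fun x n c _ _ => by rw [zpow_zero, MonoidHom.one_apply, one_mul]⟩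
  add_mem' := by
    rintro a b ⟨μ, hμ⟩ ⟨ν, hν⟩
    refine ⟨μ * ν, fun x n c h1 h2 => ?_⟩
    rw [MonoidHom.mul_apply, zpow_add, mul_mul_mul_comm, hμ x n c h1 h2, hν x n c h1 h2,
      one_mul]
  neg_mem' := by
    rintro a ⟨μ, hμ⟩
    refine ⟨μ⁻¹, fun x n c h1 h2 => ?_⟩
    rw [MonoidHom.inv_apply, zpow_neg, ← mul_inv, hμ x n c h1 h2, inv_one]

theorem mem_extMults (N : Subgroup G) [hN : N.Normal] (Θ : Representation ℂ N (Fin d → ℂ))
    (m : ℤ) : m ∈ extMults N Θ ↔ ∃ μ, IsExtMult N Θ m μ := Iff.rfl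

/-- If a representation of `P ≥ N` restricts to `N` with the character of `Θ`, then the index
of `P` is a multiplier exponent (transfer). -/
theorem index_mem_extMults [Finite G] (N : Subgroup G) [hN : N.Normal] [Fintype N]
    (Θ : Representation ℂ N (Fin d → ℂ)) [hΘ : Θ.IsIrreducible] (hd : 0 < d)
    (hinv : ∀ (g : G) (n : N),
      Θ.character ⟨g * n * g⁻¹, hN.conj_mem n n.2 g⟩ = Θ.character n)
    (P : Subgroup G) (hNP : N ≤ P) (R : Representation ℂ P (Fin d → ℂ))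
    (hR : ∀ n : N, R.character ⟨n, hNP n.2⟩ = Θ.character n) :
    (P.index : ℤ) ∈ extMults N Θ := by
  classical
  have hk : 0 < d * Nat.card N := Nat.mul_pos hd Nat.card_pos
  haveI hfin : Finite (extGroup N Θ (Nat.card N)) := extGroup_finite N Θ _ hk
  -- an intertwiner between `R|N` and `Θ`
  obtain ⟨RN, hRN⟩ : ∃ RN : Representation ℂ N (Fin d → ℂ),
      RN = R.comp (Subgroup.inclusion hNP) := ⟨_, rfl⟩
  have hRN' : ∀ n : N, RN n = R ⟨n, hNP n.2⟩ := by
    intro n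
    rw [hRN]
    rfl
  have hchar : RN.character = Θ.character := by
    funext n
    show LinearMap.trace ℂ _ (RN n) = Θ.character n
    rw [hRN', ← hR n]
    rfl
  obtain ⟨φ⟩ := Helper1.nonempty_equiv_of_character_eq RN Θ hchar
  obtain ⟨u, hu⟩ : ∃ u : (EV d)ˣ, (u : EV d) = φ.toLinearMap :=
    ⟨LinearMap.GeneralLinearGroup.ofLinearEquiv φ.toLinearEquiv, rfl⟩
  have hint : ∀ n : N, (u : EV d) * R ⟨n, hNP n.2⟩ = Θ n * (u : EV d) := by
    intro n
    rw [hu, ← hRN']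
    exact φ.isIntertwining' n
  have hint' : ∀ n : N, ((u⁻¹ : (EV d)ˣ) : EV d) * Θ n
      = R ⟨n, hNP n.2⟩ * ((u⁻¹ : (EV d)ˣ) : EV d) := by
    intro n
    calc ((u⁻¹ : (EV d)ˣ) : EV d) * Θ n
        = ((u⁻¹ : (EV d)ˣ) : EV d) * (Θ n * (u : EV d)) * ((u⁻¹ : (EV d)ˣ) : EV d) := by
          rw [mul_assoc, mul_assoc, Units.mul_inv, mul_one]
      _ = _ := by rw [← hint n, ← mul_assoc, Units.inv_mul, one_mul]
  have hπs : Function.Surjective (extProj N Θ (Nat.card N)) :=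
    extProj_surjective N Θ _ hk hinv
  -- the subgroup over `P` and its two homomorphisms to the units
  obtain ⟨EP, hEP⟩ : ∃ EP : Subgroup (extGroup N Θ (Nat.card N)),
      EP = P.comap (extProj N Θ (Nat.card N)) := ⟨_, rfl⟩
  have hEPidx : EP.index = P.index := by
    rw [hEP]
    exact Subgroup.index_comap_of_surjective P hπs
  obtain ⟨πP, hπP⟩ : ∃ πP : EP →* P, ∀ y : EP,
      ((πP y : P) : G) = ((y : extGroup N Θ (Nat.card N)) : G × (EV d)ˣ).1 := by
    subst hEP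
    exact ⟨(extProj N Θ (Nat.card N)).subgroupComap P, fun _ => rfl⟩
  obtain ⟨MU, hMU⟩ : ∃ MU : EP →* (EV d)ˣ, ∀ y : EP,
      (MU y : EV d) = (u : EV d) * R (πP y) * ((u⁻¹ : (EV d)ˣ) : EV d) :=
    ⟨(MulAut.conj u).toMonoidHom.comp (R.asGroupHom.comp πP), fun y => by
      show ((u * R.asGroupHom (πP y) * u⁻¹ : (EV d)ˣ) : EV d) = _
      rw [Units.val_mul, Units.val_mul, Representation.asGroupHom_apply]⟩
  have hscal : ∀ y : EP, ∃ c : ℂ, (MU y : EV d)
      = c • (((y : extGroup N Θ (Nat.card N)) : G × (EV d)ˣ).2 : EV d) := by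
    intro y
    refine scalar_of_twist N Θ ((y : extGroup N Θ (Nat.card N)) : G × (EV d)ˣ).1 (MU y)
      ((y : extGroup N Θ (Nat.card N)) : G × (EV d)ˣ).2 ?_ ?_ ?_
    · intro n n' hn
      have h1 : (⟨n', hNP n'.2⟩ : P) * πP y = πP y * ⟨n, hNP n.2⟩ := by
        apply Subtype.ext
        show (n' : G) * ((πP y : P) : G) = ((πP y : P) : G) * (n : G)
        rw [hn, hπP, inv_mul_cancel_right]
      rw [hMU, mul_assoc, hint' n, ← mul_assoc, mul_assoc (u : EV d), ← map_mul, ← h1, map_mul,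
        ← mul_assoc, hint n']
      simp only [mul_assoc]
    · intro n n' hn
      exact extGroup_twist N Θ _ _ (y : extGroup N Θ (Nat.card N)).2 _ rfl n n' hn
    · intro n
      exact hN.conj_mem n n.2 _
  choose lam hlam using hscal
  obtain ⟨lamH, hlamH⟩ : ∃ lamH : EP →* ℂ, ∀ y : EP, lamH y = lam y := by
    refine ⟨{ toFun := lam, map_one' := ?_, map_mul' := ?_ }, fun _ => rfl⟩
    · apply smul_unit_inj hd 1
      have h1 := hlam 1
      rw [map_one] at h1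
      rw [one_smul]
      exact h1.symm
    · intro x y
      apply smul_unit_inj hd (((x * y : EP) : extGroup N Θ (Nat.card N)) : G × (EV d)ˣ).2
      rw [← hlam (x * y), map_mul, Units.val_mul, hlam x, hlam y, smul_mul_smul_comm]
      rfl
  obtain ⟨μP, hμP⟩ : ∃ μP : EP →* ℂˣ, ∀ y : EP, ((μP y : ℂˣ) : ℂ) = lam y :=
    ⟨lamH.toHomUnits, fun y => by rw [MonoidHom.coe_toHomUnits, hlamH]⟩
  -- the key property of `μP`
  have hF : ∀ (y : EP) (n : N) (c : ℂˣ),
      ((y : extGroup N Θ (Nat.card N)) : G × (EV d)ˣ).1 = (n : G) →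
      (((y : extGroup N Θ (Nat.card N)) : G × (EV d)ˣ).2 : EV d) = (c : ℂ) • Θ n →
      μP y * c = 1 := by
    intro y n c h1 h2
    have h3 : πP y = ⟨n, hNP n.2⟩ := by
      apply Subtype.ext
      rw [hπP, h1]
    have h4 : (MU y : EV d) = Θ n := by
      rw [hMU, h3, hint n, mul_assoc, Units.mul_inv, mul_one]
    have h5 := hlam y
    rw [h4, h2, smul_smul] at h5
    have h6 : lam y * (c : ℂ) = 1 := by
      apply smul_unit_inj hd (Θ.asGroupHom n)
      rw [Representation.asGroupHom_apply, one_smul]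
      exact h5.symm
    apply Units.ext
    rw [Units.val_mul, hμP, h6, Units.val_one]
  -- the transfer
  obtain ⟨T, hT⟩ : ∃ T : extGroup N Θ (Nat.card N) →* ℂˣ, T = MonoidHom.transfer μP :=
    ⟨_, rfl⟩
  rw [mem_extMults]
  refine ⟨T, ?_⟩
  intro x n c h1 h2
  obtain ⟨z, hz⟩ : ∃ z : extGroup N Θ (Nat.card N), z = x * (extIncl N Θ n)⁻¹ := ⟨_, rfl⟩
  have hz1 : (z : G × (EV d)ˣ).1 = 1 := by
    rw [hz]
    show (x : G × (EV d)ˣ).1
      * (((extIncl N Θ n : extGroup N Θ (Nat.card N)) : G × (EV d)ˣ).1)⁻¹ = 1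
    rw [extIncl_fst, h1, mul_inv_cancel]
  have hz2 : ((z : G × (EV d)ˣ).2 : EV d) = (c : ℂ) • (1 : EV d) := by
    rw [hz]
    show ((x : G × (EV d)ˣ).2 : EV d) * (((Θ.asGroupHom n)⁻¹ : (EV d)ˣ) : EV d) = _
    rw [h2, ← Representation.asGroupHom_apply, smul_mul_assoc, Units.mul_inv]
  have hzc : ∀ y : extGroup N Θ (Nat.card N), z * y = y * z := by
    intro y
    apply Subtype.ext
    exact extGroup_comm N Θ _ z z.2 hz1 y
  have hx : x = z * extIncl N Θ n := by rw [hz, inv_mul_cancel_right]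
  have hF' : ∀ (y : extGroup N Θ (Nat.card N)) (hy : y ∈ EP) (n : N) (c : ℂˣ),
      (y : G × (EV d)ˣ).1 = (n : G) → ((y : G × (EV d)ˣ).2 : EV d) = (c : ℂ) • Θ n →
      μP ⟨y, hy⟩ * c = 1 := fun y hy => hF ⟨y, hy⟩
  -- transfer of the embedded copy of `N`
  have hTL : ∀ l : extGroup N Θ (Nat.card N),
      (∀ (j : ℕ) (g₀ : extGroup N Θ (Nat.card N)),
        ∃ n' : N, g₀⁻¹ * l ^ j * g₀ = extIncl N Θ n') →
      MonoidHom.transfer μP l = 1 := by
    intro l hl
    letI : Fintype (Quotient (MulAction.orbitRel (Subgroup.zpowers l)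
      (extGroup N Θ (Nat.card N) ⧸ EP))) := Fintype.ofFinite _
    rw [MonoidHom.transfer_eq_prod_quotient_orbitRel_zpowers_quot]
    apply Finset.prod_eq_one
    intro q _
    obtain ⟨n', hn'⟩ := hl (Function.minimalPeriod (l • ·) q.out) q.out.out
    have e1 : ((q.out.out⁻¹ * l ^ Function.minimalPeriod (l • ·) q.out * q.out.out :
        extGroup N Θ (Nat.card N)) : G × (EV d)ˣ).1 = (n' : G) := by
      rw [hn']
      rfl
    have e2 : (((q.out.out⁻¹ * l ^ Function.minimalPeriod (l • ·) q.out * q.out.out :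
        extGroup N Θ (Nat.card N)) : G × (EV d)ˣ).2 : EV d) = ((1 : ℂˣ) : ℂ) • Θ n' := by
      rw [hn', extIncl_snd, Units.val_one, one_smul]
    have h5 := hF' _ (QuotientGroup.out_conj_pow_minimalPeriod_mem EP l q.out) n' 1 e1 e2
    rw [mul_one] at h5
    exact h5
  have hTι : T (extIncl N Θ n) = 1 := by
    rw [hT]
    apply hTL
    intro j g₀
    obtain ⟨n', hn'⟩ : ∃ n' : N, (n' : G)
        = ((g₀⁻¹ : extGroup N Θ (Nat.card N)) : G × (EV d)ˣ).1 * ((n ^ j : N) : G)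
          * (((g₀⁻¹ : extGroup N Θ (Nat.card N)) : G × (EV d)ˣ).1)⁻¹ :=
      ⟨⟨_, hN.conj_mem _ (n ^ j : N).2 _⟩, rfl⟩
    refine ⟨n', ?_⟩
    rw [← extIncl_conj N Θ g₀⁻¹ (n ^ j) n' hn', inv_inv, map_pow]
  -- transfer of the central part
  have hkey : ∀ (j : ℕ) (g₀ : extGroup N Θ (Nat.card N)),
      g₀⁻¹ * z ^ j * g₀ ∈ EP → g₀⁻¹ * z ^ j * g₀ = z ^ j := by
    intro j g₀ _
    have hc : Commute z g₀ := hzc g₀
    rw [mul_assoc, (hc.pow_left j).eq, inv_mul_cancel_left]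
  have hTz : T z * c ^ EP.index = 1 := by
    rw [hT, MonoidHom.transfer_eq_pow μP z hkey]
    have e1 : ((z ^ EP.index : extGroup N Θ (Nat.card N)) : G × (EV d)ˣ).1 = ((1 : N) : G) := by
      rw [Subgroup.coe_pow, Prod.pow_fst, hz1, one_pow]
      rfl
    have e2 : (((z ^ EP.index : extGroup N Θ (Nat.card N)) : G × (EV d)ˣ).2 : EV d)
        = ((c ^ EP.index : ℂˣ) : ℂ) • Θ 1 := by
      rw [Subgroup.coe_pow, Prod.pow_snd, Units.val_pow_eq_pow_val, hz2, smul_pow, one_pow,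
        map_one, Units.val_pow_eq_pow_val]
    exact hF' _ _ 1 (c ^ EP.index) e1 e2
  rw [hx, map_mul, hTι, mul_one, ← hEPidx, zpow_natCast]
  exact hTz

/-- If `1` is a multiplier exponent, then `Θ` extends to a representation of `G`. -/
theorem exists_rep_extension [Finite G] (N : Subgroup G) [hN : N.Normal] [Fintype N]
    (Θ : Representation ℂ N (Fin d → ℂ)) [hΘ : Θ.IsIrreducible] (hd : 0 < d)
    (hinv : ∀ (g : G) (n : N),
      Θ.character ⟨g * n * g⁻¹, hN.conj_mem n n.2 g⟩ = Θ.character n)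
    (h1 : (1 : ℤ) ∈ extMults N Θ) :
    ∃ ρ : Representation ℂ G (Fin d → ℂ), ∀ n : N, ρ n = Θ n := by
  classical
  have hk : 0 < d * Nat.card N := Nat.mul_pos hd Nat.card_pos
  have hπs : Function.Surjective (extProj N Θ (Nat.card N)) :=
    extProj_surjective N Θ _ hk hinv
  haveI : Nonempty (Fin d) := ⟨⟨0, hd⟩⟩
  obtain ⟨μ, hμ⟩ := h1
  obtain ⟨rt, hrt⟩ : ∃ rt : extGroup N Θ (Nat.card N) →* EV d, ∀ x,
      rt x = ((μ x : ℂˣ) : ℂ) • ((x : G × (EV d)ˣ).2 : EV d) :=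
    ⟨{ toFun := fun x => ((μ x : ℂˣ) : ℂ) • ((x : G × (EV d)ˣ).2 : EV d)
       map_one' := by
        rw [map_one, Units.val_one, one_smul]
        rfl
       map_mul' := fun x y => by
        rw [map_mul, Units.val_mul, smul_mul_smul_comm]
        rfl }, fun _ => rfl⟩
  have hker : (extProj N Θ (Nat.card N)).ker ≤ rt.toHomUnits.ker := by
    intro x hx
    rw [MonoidHom.mem_ker] at hx ⊢
    apply Units.ext
    rw [MonoidHom.coe_toHomUnits, Units.val_one]
    have hx1 : (x : G × (EV d)ˣ).1 = 1 := hx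
    obtain ⟨c, hc⟩ := scalar_of_twist N Θ 1 (x : G × (EV d)ˣ).2 1
      (fun n n' hn => extGroup_twist N Θ _ _ x.2 1 hx1 n n' hn)
      (fun n n' hn => by
        have h2 : n' = n := by
          apply Subtype.ext
          rw [hn, one_mul, inv_one, mul_one]
        rw [h2, Units.val_one, one_mul, mul_one])
      (fun n => by
        rw [one_mul, inv_one, mul_one]
        exact n.2)
    rw [Units.val_one] at hc
    have hc0 : c ≠ 0 := by
      rintro rfl
      rw [zero_smul] at hc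
      exact (x : G × (EV d)ˣ).2.ne_zero hc
    have h2 := hμ x 1 (Units.mk0 c hc0) (by rw [hx1]; rfl) (by rw [hc, map_one]; rfl)
    rw [zpow_one] at h2
    have h3 : ((μ x : ℂˣ) : ℂ) * c = 1 := by
      have h4 := congrArg Units.val h2
      rwa [Units.val_mul, Units.val_one] at h4
    rw [hrt, hc, smul_smul, h3, one_smul]
  obtain ⟨ρ', hρ'⟩ : ∃ ρ' : G →* (EV d)ˣ, ∀ x : extGroup N Θ (Nat.card N),
      ρ' (extProj N Θ (Nat.card N) x) = rt.toHomUnits x :=
    ⟨(extProj N Θ (Nat.card N)).liftOfRightInverse (Function.surjInv hπs)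
        (Function.rightInverse_surjInv hπs) ⟨rt.toHomUnits, hker⟩,
      fun x => MonoidHom.liftOfRightInverse_comp_apply _ _ _ ⟨rt.toHomUnits, hker⟩ x⟩
  obtain ⟨ρ, hρ⟩ : ∃ ρ : G →* EV d, ∀ x : extGroup N Θ (Nat.card N),
      ρ (extProj N Θ (Nat.card N) x) = rt x :=
    ⟨(Units.coeHom (EV d)).comp ρ', fun x => by
      show ((ρ' (extProj N Θ (Nat.card N) x) : (EV d)ˣ) : EV d) = rt x
      rw [hρ', MonoidHom.coe_toHomUnits]⟩
  refine ⟨ρ, fun n => ?_⟩
  have h3 := hρ (extIncl N Θ n)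
  have h4 : extProj N Θ (Nat.card N) (extIncl N Θ n) = (n : G) := rfl
  rw [h4, hrt, extIncl_snd] at h3
  have h5 := hμ (extIncl N Θ n) n 1 rfl (by rw [Units.val_one, one_smul, extIncl_snd])
  rw [one_zpow, mul_one] at h5
  rw [h3, h5, Units.val_one, one_smul]

/-- Extension from a family of overgroups whose indices have no common prime divisor. -/
theorem exists_irr_extension_of_sylow [Finite G] (N : Subgroup G) [hN : N.Normal] (ϑ : N → ℂ)
    (hϑ : IsIrrCharacter N ϑ)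
    (hinv : ∀ (g : G) (n : N), ϑ ⟨g * n * g⁻¹, hN.conj_mem (n : G) n.2 g⟩ = ϑ n)
    (hsyl : ∀ p : ℕ, p.Prime → ∃ (P : Subgroup G) (hNP : N ≤ P) (η : P → ℂ),
      Nat.Coprime P.index p ∧ IsIrrCharacter P η ∧ ∀ n : N, η ⟨(n : G), hNP n.2⟩ = ϑ n) :
    ∃ χ : G → ℂ, IsIrrCharacter G χ ∧ ∀ n : N, χ n = ϑ n := by
  classical
  letI : Fintype N := Fintype.ofFinite N
  have hd0 := irr_one_ne_zero (⟨ϑ, hϑ⟩ : IrrCharacter N)
  obtain ⟨d, Θ, hΘ, hΘϑ⟩ := hϑ
  haveI := hΘ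
  have hϑ1 : ϑ 1 = d := by
    rw [← hΘϑ]
    exact rep_char_one Θ
  have hd : 0 < d := by
    have h1 : ϑ 1 ≠ 0 := hd0
    rw [hϑ1] at h1
    exact Nat.pos_of_ne_zero (fun h => h1 (by rw [h, Nat.cast_zero]))
  have hinvΘ : ∀ (g : G) (n : N),
      Θ.character ⟨g * n * g⁻¹, hN.conj_mem n n.2 g⟩ = Θ.character n := by
    rw [hΘϑ]
    exact hinv
  have hmem : ∀ p : ℕ, p.Prime → ∃ m : ℕ, (m : ℤ) ∈ extMults N Θ ∧ Nat.Coprime m p := by
    intro p hp
    obtain ⟨P, hNP, η, hcop, ⟨d', R, hR, hRη⟩, hres⟩ := hsyl p hp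
    have hd' : d' = d := by
      have h1 : η 1 = d' := by
        rw [← hRη]
        exact rep_char_one R
      have h4 : η 1 = ϑ 1 := hres 1
      rw [h1, hϑ1] at h4
      exact_mod_cast h4
    subst hd'
    refine ⟨P.index, index_mem_extMults N Θ hd hinvΘ P hNP R ?_, hcop⟩
    intro n
    rw [hRη, hΘϑ]
    exact hres n
  obtain ⟨a, ha⟩ := Int.subgroup_cyclic (extMults N Θ)
  have hdiv : ∀ p : ℕ, p.Prime → ∃ m : ℕ, a ∣ (m : ℤ) ∧ Nat.Coprime m p := by
    intro p hp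
    obtain ⟨m, hm, hcop⟩ := hmem p hp
    rw [ha, AddSubgroup.mem_closure_singleton] at hm
    obtain ⟨n, hn⟩ := hm
    exact ⟨m, ⟨n, by rw [← hn, smul_eq_mul, mul_comm]⟩, hcop⟩
  have ha1 : a.natAbs = 1 := by
    by_contra hne
    obtain ⟨q, hq, hqa⟩ := Nat.exists_prime_and_dvd hne
    obtain ⟨m, hm, hcop⟩ := hdiv q hq
    have h2 : a.natAbs ∣ m := by
      have h3 := Int.natAbs_dvd_natAbs.mpr hm
      rwa [Int.natAbs_natCast] at h3
    have h3 : q ∣ Nat.gcd m q := Nat.dvd_gcd (hqa.trans h2) dvd_rfl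
    rw [hcop] at h3
    exact hq.one_lt.ne' (Nat.dvd_one.mp h3)
  have h1mem : (1 : ℤ) ∈ extMults N Θ := by
    have h2 : a * a = 1 := by
      rw [← Int.natAbs_mul_self' a, ha1]
      norm_num
    rw [ha, AddSubgroup.mem_closure_singleton]
    exact ⟨a, by rw [smul_eq_mul, h2]⟩
  obtain ⟨ρ, hρ⟩ := exists_rep_extension N Θ hd hinvΘ h1mem
  refine ⟨ρ.character, ⟨d, ρ, ?_, rfl⟩, ?_⟩
  · apply isIrreducible_of_comp ρ N.subtype
    have h5 : (ρ.comp N.subtype : Representation ℂ N (Fin d → ℂ)) = Θ := MonoidHom.ext hρ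
    rw [h5]
    exact hΘ
  · intro n
    rw [← hΘϑ]
    show LinearMap.trace ℂ _ (ρ n) = LinearMap.trace ℂ _ (Θ n)
    rw [hρ]

end ExtSyl

end Cfsg.Agent.Helper7
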