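import Mathlib
import Cfsg.Agent.Helper2.PSolvBlock
import Cfsg.Agent.Helper13.PSolv
import Cfsg.Agent.Helper10.PComp
import Cfsg.Agent.Helper26.BlockQuot
import Cfsg.Agent.Helper25.CharKer
import Cfsg.Agent.S0967
import Cfsg.Agent.S0081
import Cfsg.Agent.S0072
import Cfsg.Agent.S0586
import Cfsg.Agent.Helper7.LinChar

/-!
# Principal blocks of `p`-solvable groups and characters of `p'`-degree (helper7)

* `prin_core_le_irrKer`: characters of the principal block are trivial on `O_{p'}(G)`.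
* `exists_prin_pprime_over_linear`: `G` `p`-solvable, `P` a Sylow `p`-subgroup and `lam` a
  linear character of `P`: some irreducible character of `p'`-degree in the principal block
  lies over `lam` (in the form: its kernel meets `P` inside the kernel of `lam`).
* `inf_sylow_le_commutator`: a subgroup contained in the kernels of all `p'`-degree characters
  of the principal block meets `P` inside `P'`.
* `pPrimeCore_quot_eq_bot_of_inf_le_frattini`: Tate: if `K` is normal, contains `O_{p'}(G)` and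
  meets `P` inside the Frattini subgroup of `P`, then `O_{p'}(G/K) = 1`.
-/

set_option autoImplicit false

namespace Cfsg.Agent.Helper7

open Cfsg Cfsg.Agent.Helper25 Cfsg.Agent.Helper2
open scoped ComplexConjugate

universe u

variable {G : Type u} [Group G] {p : ℕ} {M : Ideal AlgInt}

/-- Characters of the principal block are trivial on `O_{p'}(G)`. -/
theorem prin_core_le_irrKer [Finite G] [Fact p.Prime] (hM : IsPModular p M)
    (χ : IrrCharacter G) (hχ : χ ∈ principalBlock M G) : pPrimeCore p G ≤ irrKer χ := by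
  have hc : ¬ p ∣ Nat.card (pPrimeCore p G) :=
    (Nat.Prime.coprime_iff_not_dvd Fact.out).mp (Cfsg.Agent.Helper10.pPrimeCore_coprime p G).symm
  have h1 : χ ∈ blockOf M (((trivChar (G ⧸ pPrimeCore p G) : IrrCharacter (G ⧸ pPrimeCore p G)) :
      G ⧸ pPrimeCore p G → ℂ) ∘ QuotientGroup.mk) := hχ
  obtain ⟨ψ', hψ', -⟩ := Cfsg.Agent.S0967.result p M hM (pPrimeCore p G) hc (trivChar _) χ h1
  intro n hn
  rw [mem_irrKer, hψ']
  show (ψ' : G ⧸ pPrimeCore p G → ℂ) (QuotientGroup.mk n)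
    = (ψ' : G ⧸ pPrimeCore p G → ℂ) (QuotientGroup.mk 1)
  have e : (QuotientGroup.mk n : G ⧸ pPrimeCore p G) = QuotientGroup.mk 1 := by
    rw [QuotientGroup.mk_one]
    exact (QuotientGroup.eq_one_iff n).mpr hn
  rw [e]

/-- In a `p`-solvable group, every linear character of a Sylow `p`-subgroup lies under an
irreducible character of `p'`-degree of the principal block. -/
theorem exists_prin_pprime_over_linear [Finite G] [hp : Fact p.Prime] (hM : IsPModular p M)
    (hsolv : IsPSolvable p G) (P : Sylow p G) (lam : (P : Subgroup G) →* ℂˣ) :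
    ∃ χ : IrrCharacter G, χ ∈ principalBlock M G ∧ ¬ p ∣ charDegree (χ : G → ℂ) ∧
      ∀ x : (P : Subgroup G), (χ : G → ℂ) x = (χ : G → ℂ) 1 → lam x = 1 := by
  classical
  letI := Fintype.ofFinite G
  letI : Fintype (G ⧸ pPrimeCore p G) := Fintype.ofFinite _
  obtain ⟨f, hfdef⟩ : ∃ f : (P : Subgroup G) →* G ⧸ pPrimeCore p G,
      f = (QuotientGroup.mk' (pPrimeCore p G)).comp (P : Subgroup G).subtype := ⟨_, rfl⟩
  have hfx : ∀ x : (P : Subgroup G), f x = QuotientGroup.mk' (pPrimeCore p G) (x : G) := by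
    intro x
    rw [hfdef]
    rfl
  have hcop := Cfsg.Agent.Helper10.pPrimeCore_coprime p G
  have hf : Function.Injective f := by
    rw [injective_iff_map_eq_one]
    intro x hx
    rw [hfx] at hx
    have hxN : (x : G) ∈ pPrimeCore p G := (QuotientGroup.eq_one_iff _).mp hx
    have h1 : orderOf (x : G) ∣ Nat.card (pPrimeCore p G) := by
      have := orderOf_dvd_natCard (⟨(x : G), hxN⟩ : pPrimeCore p G)
      rwa [Subgroup.orderOf_mk] at this
    obtain ⟨k, hk⟩ := P.isPGroup' x
    have h2 : orderOf (x : G) ∣ p ^ k := by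
      apply orderOf_dvd_of_pow_eq_one
      have := congrArg Subtype.val hk
      simpa using this
    have h3 : orderOf (x : G) = 1 :=
      Nat.eq_one_of_dvd_coprimes (Nat.Coprime.pow_right k hcop) h1 h2
    exact Subtype.ext (orderOf_eq_one_iff.mp h3)
  letI : Fintype f.range := Fintype.ofFinite _
  obtain ⟨e, hedef⟩ : ∃ e : (P : Subgroup G) ≃* f.range, e = MonoidHom.ofInjective hf := ⟨_, rfl⟩
  have hex : ∀ x : (P : Subgroup G), ((e x : f.range) : G ⧸ pPrimeCore p G) = f x := by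
    intro x
    rw [hedef]
    rfl
  obtain ⟨lam', hlam'def⟩ : ∃ lam' : f.range →* ℂˣ, lam' = lam.comp e.symm.toMonoidHom :=
    ⟨_, rfl⟩
  have hlam' : ∀ x : (P : Subgroup G), lam' (e x) = lam x := by
    intro x
    rw [hlam'def]
    show lam (e.symm (e x)) = lam x
    rw [MulEquiv.symm_apply_apply]
  have hidx : ¬ p ∣ (f.range).index := by
    have h1 : Nat.card f.range = Nat.card (P : Subgroup G) := (Nat.card_congr e.toEquiv).symm
    have h2 : (f.range).index * Nat.card f.range = Nat.card (G ⧸ pPrimeCore p G) :=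
      Subgroup.index_mul_card _
    have h3 : Nat.card (G ⧸ pPrimeCore p G) * Nat.card (pPrimeCore p G) = Nat.card G := by
      rw [← Subgroup.index_eq_card, Subgroup.index_mul_card]
    have h4 : (P : Subgroup G).index * Nat.card (P : Subgroup G) = Nat.card G :=
      Subgroup.index_mul_card _
    have h5 : (f.range).index * Nat.card (pPrimeCore p G) = (P : Subgroup G).index := by
      have hpos : 0 < Nat.card (P : Subgroup G) := Nat.card_pos
      apply Nat.eq_of_mul_eq_mul_right hpos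
      calc (f.range).index * Nat.card (pPrimeCore p G) * Nat.card (P : Subgroup G)
          = ((f.range).index * Nat.card f.range) * Nat.card (pPrimeCore p G) := by
            rw [h1]; ring
        _ = (P : Subgroup G).index * Nat.card (P : Subgroup G) := by rw [h2, h3, h4]
    intro hd
    exact P.not_dvd_index (h5 ▸ Dvd.dvd.mul_right hd _)
  have hψ : IsCharacter (G ⧸ pPrimeCore p G)
      (indFun f.range (fun x => ((lam' x : ℂˣ) : ℂ))) :=
    isCharacter_indFun f.range (isCharacter_of_hom lam')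
  have hψ1 : indFun f.range (fun x => ((lam' x : ℂˣ) : ℂ)) 1 = ((f.range).index : ℂ) := by
    rw [indFun_one_apply]
    simp
  obtain ⟨χb, hχb0, hχbp⟩ : ∃ χb : IrrCharacter (G ⧸ pPrimeCore p G),
      classInner (indFun f.range (fun x => ((lam' x : ℂˣ) : ℂ)))
        (χb : G ⧸ pPrimeCore p G → ℂ) ≠ 0 ∧
      ¬ p ∣ charDegree (χb : G ⧸ pPrimeCore p G → ℂ) := by
    by_contra hno
    push Not at hno
    have hsum := congrFun (classFun_eq_sum_classInner (isClassFunction_of_isCharacter hψ)) 1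
    rw [hψ1, Finset.sum_apply] at hsum
    have hterm : ∀ χ : IrrCharacter (G ⧸ pPrimeCore p G), ∃ t : ℕ,
        (classInner (indFun f.range (fun x => ((lam' x : ℂˣ) : ℂ)))
          (χ : G ⧸ pPrimeCore p G → ℂ) • (χ : G ⧸ pPrimeCore p G → ℂ)) 1
          = ((p * t : ℕ) : ℂ) := by
      intro χ
      obtain ⟨m, hm⟩ := classInner_char_nat hψ (isCharacter_of_isIrrCharacter χ.2)
      by_cases h0 : classInner (indFun f.range (fun x => ((lam' x : ℂˣ) : ℂ)))
          (χ : G ⧸ pPrimeCore p G → ℂ) = 0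
      · refine ⟨0, ?_⟩
        rw [Pi.smul_apply, h0]
        simp
      · obtain ⟨t, ht⟩ := hno χ h0
        refine ⟨m * t, ?_⟩
        rw [Pi.smul_apply, smul_eq_mul, hm, irr_one_eq_degree χ, ht]
        push_cast
        ring
    choose t ht using hterm
    have hsum2 : (((f.range).index : ℕ) : ℂ) = ((p * ∑ χ, t χ : ℕ) : ℂ) := by
      rw [hsum, Finset.mul_sum]
      push_cast
      exact Finset.sum_congr rfl (fun χ _ => by rw [ht χ]; push_cast; ring)
    have h' : (f.range).index = p * ∑ χ, t χ := by exact_mod_cast hsum2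
    exact hidx ⟨_, h'⟩
  rw [frobenius_reciprocity f.range (fun x => ((lam' x : ℂˣ) : ℂ))
    (χb : G ⧸ pPrimeCore p G → ℂ) (Cfsg.Agent.Helper1.isClassFunction_irr χb)] at hχb0
  have hS : ∑ h : f.range, ((lam' h : ℂˣ) : ℂ)
      * conj ((χb : G ⧸ pPrimeCore p G → ℂ) (h : G ⧸ pPrimeCore p G)) ≠ 0 := by
    intro h0
    apply hχb0
    show (Nat.card f.range : ℂ)⁻¹ * ∑ h : f.range, ((lam' h : ℂˣ) : ℂ)
      * conj ((χb : G ⧸ pPrimeCore p G → ℂ) (h : G ⧸ pPrimeCore p G)) = 0
    rw [h0, mul_zero]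
  have hker : ∀ z : f.range, (χb : G ⧸ pPrimeCore p G → ℂ) (z : G ⧸ pPrimeCore p G)
      = (χb : G ⧸ pPrimeCore p G → ℂ) 1 → lam' z = 1 := by
    intro z hz
    obtain ⟨ψ', hψ'⟩ := exists_deflate χb (irrKer χb) le_rfl
    have hzker : (z : G ⧸ pPrimeCore p G) ∈ irrKer χb := (mem_irrKer χb _).mpr hz
    have hinv : ∀ y : G ⧸ pPrimeCore p G, (χb : G ⧸ pPrimeCore p G → ℂ) (y * z)
        = (χb : G ⧸ pPrimeCore p G → ℂ) y := by
      intro y
      have e1 : (y * (z : G ⧸ pPrimeCore p G))⁻¹ * y = (z : G ⧸ pPrimeCore p G)⁻¹ := by group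
      have e2 : (QuotientGroup.mk (y * (z : G ⧸ pPrimeCore p G)) :
          (G ⧸ pPrimeCore p G) ⧸ irrKer χb) = QuotientGroup.mk y := by
        rw [QuotientGroup.eq, e1]
        exact (irrKer χb).inv_mem hzker
      rw [← hψ' (y * z), ← hψ' y, e2]
    have hsum : ∑ h : f.range, ((lam' z : ℂˣ) : ℂ) * (((lam' h : ℂˣ) : ℂ)
          * conj ((χb : G ⧸ pPrimeCore p G → ℂ) (h : G ⧸ pPrimeCore p G)))
        = ∑ h : f.range, ((lam' h : ℂˣ) : ℂ)
          * conj ((χb : G ⧸ pPrimeCore p G → ℂ) (h : G ⧸ pPrimeCore p G)) := by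
      apply Fintype.sum_equiv (Equiv.mulRight z)
      intro h
      rw [Equiv.coe_mulRight, map_mul, Units.val_mul, Subgroup.coe_mul, hinv]
      ring
    have h2 : (((lam' z : ℂˣ) : ℂ) - 1) * ∑ h : f.range, ((lam' h : ℂˣ) : ℂ)
        * conj ((χb : G ⧸ pPrimeCore p G → ℂ) (h : G ⧸ pPrimeCore p G)) = 0 := by
      rw [sub_mul, one_mul, Finset.mul_sum, hsum, sub_self]
    rcases mul_eq_zero.mp h2 with h3 | h3
    · exact Units.ext (sub_eq_zero.mp h3)
    · exact absurd h3 hS
  have hsb : SameBlock M ((trivChar (G ⧸ pPrimeCore p G) : IrrCharacter (G ⧸ pPrimeCore p G)) :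
      G ⧸ pPrimeCore p G → ℂ) (χb : G ⧸ pPrimeCore p G → ℂ) :=
    sameBlock_of_psolv_core_bot hM (Cfsg.Agent.Helper13.isPSolvable_quotient hsolv _)
      (Cfsg.Agent.Helper10.pPrimeCore_quotient p G) _ _
  have hinf := Cfsg.Agent.Helper26.sameBlock_inflate hM (pPrimeCore p G) (trivChar _) χb hsb
  refine ⟨⟨fun g => (χb : G ⧸ pPrimeCore p G → ℂ) (QuotientGroup.mk' (pPrimeCore p G) g),
    isIrrCharacter_comp_of_surjective (QuotientGroup.mk' (pPrimeCore p G))
      (QuotientGroup.mk'_surjective _) χb.2⟩, hinf, ?_, ?_⟩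
  · have e1 : charDegree (fun g : G => (χb : G ⧸ pPrimeCore p G → ℂ)
        (QuotientGroup.mk' (pPrimeCore p G) g)) = charDegree (χb : G ⧸ pPrimeCore p G → ℂ) := by
      unfold charDegree
      show ⌊((χb : G ⧸ pPrimeCore p G → ℂ) (QuotientGroup.mk' (pPrimeCore p G) 1)).re⌋₊ = _
      rw [map_one]
    show ¬ p ∣ charDegree (fun g : G => (χb : G ⧸ pPrimeCore p G → ℂ)
        (QuotientGroup.mk' (pPrimeCore p G) g))
    rw [e1]
    exact hχbp
  · intro x hx
    have hx' : (χb : G ⧸ pPrimeCore p G → ℂ) (QuotientGroup.mk' (pPrimeCore p G) (x : G))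
        = (χb : G ⧸ pPrimeCore p G → ℂ) (QuotientGroup.mk' (pPrimeCore p G) 1) := hx
    rw [map_one, ← hfx, ← hex] at hx'
    rw [← hlam' x]
    exact hker (e x) hx'

/-- A subgroup contained in the kernels of all `p'`-degree characters of the principal block of
a `p`-solvable group meets a Sylow `p`-subgroup `P` inside `P'`. -/
theorem inf_sylow_le_commutator [Finite G] [Fact p.Prime] (hM : IsPModular p M)
    (hsolv : IsPSolvable p G) (P : Sylow p G) (K : Subgroup G)
    (hK : ∀ χ : IrrCharacter G, χ ∈ principalBlock M G → ¬ p ∣ charDegree (χ : G → ℂ) →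
      K ≤ irrKer χ)
    (x : (P : Subgroup G)) (hx : (x : G) ∈ K) : x ∈ commutator (P : Subgroup G) := by
  classical
  by_contra hnot
  have h1 : (Abelianization.of x : Abelianization (P : Subgroup G)) ≠ 1 := by
    intro h
    apply hnot
    rw [← Abelianization.ker_of]
    exact h
  haveI : NeZero ((Monoid.exponent (Abelianization (P : Subgroup G)) : ℕ) : ℂ) := ⟨by
    have := Monoid.exponent_ne_zero_of_finite (G := Abelianization (P : Subgroup G))
    exact_mod_cast this⟩
  obtain ⟨φ, hφ⟩ := CommGroup.exists_apply_ne_one_of_hasEnoughRootsOfUnity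
    (Abelianization (P : Subgroup G)) ℂ h1
  obtain ⟨χ, hχ1, hχ2, hχ3⟩ :=
    exists_prin_pprime_over_linear hM hsolv P (φ.comp Abelianization.of)
  exact hφ (hχ3 x ((mem_irrKer χ _).mp (hK χ hχ1 hχ2 hx)))

/-- Tate: if the normal subgroup `K` contains `O_{p'}(G)` and meets a Sylow `p`-subgroup `P`
inside the Frattini subgroup of `P`, then `O_{p'}(G/K) = 1`. -/
theorem pPrimeCore_quot_eq_bot_of_inf_le_frattini [Finite G] [Fact p.Prime] (P : Sylow p G)
    (K : Subgroup G) [K.Normal] (hcore : pPrimeCore p G ≤ K)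
    (hK : K ⊓ (P : Subgroup G) ≤ (frattini (P : Subgroup G)).map (P : Subgroup G).subtype) :
    pPrimeCore p (G ⧸ K) = ⊥ := by
  classical
  obtain ⟨U, hUdef⟩ : ∃ U : Subgroup G,
      U = (pPrimeCore p (G ⧸ K)).comap (QuotientGroup.mk' K) := ⟨_, rfl⟩
  haveI hUn : U.Normal := by
    rw [hUdef]
    exact Subgroup.Normal.comap inferInstance _
  have hUmem : ∀ u : G, u ∈ U ↔ QuotientGroup.mk' K u ∈ pPrimeCore p (G ⧸ K) := by
    intro u
    rw [hUdef]
    exact Subgroup.mem_comap
  have hcopU : (Nat.card (pPrimeCore p (G ⧸ K))).Coprime p :=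
    Cfsg.Agent.Helper10.pPrimeCore_coprime p _
  have hpel : ∀ z : G ⧸ K, z ∈ pPrimeCore p (G ⧸ K) → ∀ k : ℕ, z ^ p ^ k = 1 → z = 1 := by
    intro z hz k hk
    have h1 : orderOf z ∣ Nat.card (pPrimeCore p (G ⧸ K)) := by
      have := orderOf_dvd_natCard (⟨z, hz⟩ : pPrimeCore p (G ⧸ K))
      rwa [Subgroup.orderOf_mk] at this
    have h2 : orderOf z ∣ p ^ k := orderOf_dvd_of_pow_eq_one hk
    exact orderOf_eq_one_iff.mp
      (Nat.eq_one_of_dvd_coprimes (Nat.Coprime.pow_right k hcopU) h1 h2)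
  have hUP : U ⊓ (P : Subgroup G) ≤ K ⊓ (P : Subgroup G) := by
    rintro x ⟨hxU, hxP⟩
    refine ⟨?_, hxP⟩
    obtain ⟨k, hk⟩ := P.isPGroup' ⟨x, hxP⟩
    have hk' : x ^ p ^ k = 1 := by simpa using congrArg Subtype.val hk
    have h1 := hpel (QuotientGroup.mk' K x) ((hUmem x).mp hxU) k (by rw [← map_pow, hk', map_one])
    exact (QuotientGroup.eq_one_iff x).mp h1
  have hT := Cfsg.Agent.S0081.result P U (hUP.trans hK)
  obtain ⟨Y, hYn, hYc, k, hYk⟩ := (Cfsg.Agent.S0072.npc_iff p).mp hT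
  haveI := hYn
  have hYchar : ∀ u : U, (orderOf u).Coprime p → u ∈ Y := by
    intro u hu
    have h1 : u ^ p ^ k ∈ Y := hYk ▸ Subgroup.pow_index_mem Y u
    obtain ⟨m, h2⟩ := exists_pow_eq_self_of_coprime
      (Nat.Coprime.pow_left k (Nat.Coprime.symm hu))
    rw [← h2]
    exact Y.pow_mem h1 m
  have hYnorm : (Y.map U.subtype).Normal := by
    constructor
    intro y hy g
    obtain ⟨y', hy', rfl⟩ := Subgroup.mem_map.mp hy
    have hgU : g * (y' : G) * g⁻¹ ∈ U := hUn.conj_mem _ y'.2 g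
    refine Subgroup.mem_map.mpr ⟨⟨g * (y' : G) * g⁻¹, hgU⟩, ?_, rfl⟩
    apply hYchar
    have ho : orderOf (⟨g * (y' : G) * g⁻¹, hgU⟩ : U) = orderOf y' := by
      rw [← Subgroup.orderOf_coe, ← Subgroup.orderOf_coe]
      exact (MulAut.conj g).orderOf_eq (y' : G)
    rw [ho]
    have h1 : orderOf y' ∣ Nat.card Y := by
      have := orderOf_dvd_natCard (⟨y', hy'⟩ : Y)
      rwa [Subgroup.orderOf_mk] at this
    exact Nat.Coprime.coprime_dvd_left h1 hYc
  have hYcard : (Nat.card (Y.map U.subtype)).Coprime p := by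
    rw [Subgroup.card_map_of_injective U.subtype_injective]
    exact hYc
  rw [eq_bot_iff]
  intro z hz
  obtain ⟨u, rfl⟩ := QuotientGroup.mk'_surjective K z
  have huU : u ∈ U := (hUmem u).mpr hz
  have h1 : (⟨u, huU⟩ : U) ^ p ^ k ∈ Y := hYk ▸ Subgroup.pow_index_mem Y _
  have h2 : u ^ p ^ k ∈ K := by
    apply hcore
    apply Cfsg.Agent.Helper10.le_pPrimeCore p hYnorm hYcard
    exact Subgroup.mem_map.mpr ⟨_, h1, rfl⟩
  rw [Subgroup.mem_bot]
  apply hpel _ hz k
  rw [← map_pow]
  exact (QuotientGroup.eq_one_iff _).mpr h2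

end Cfsg.Agent.Helper7
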