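import Mathlib
import Cfsg.Agent.Helper11.Sibley4
import Cfsg.Agent.Helper11.TIInd
import Cfsg.Agent.Helper11.CentralTI

/-!
# T.I. subgroups with Frobenius normaliser: exceptional characters (helper7)

* `const_on_kernel_of_orth`: a class function of a group `L` with normal subgroup `K` which, cut
  down to `K ∖ 1`, is orthogonal to all `ξ(1) χ - χ(1) ξ` (`χ, ξ` irreducible and nontrivial on
  `K`) is constant on `K ∖ 1`.
* `relS N K`: the irreducible characters of `N` nontrivial on `K`.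
* `tifrob_const`: the constancy statement for a T.I. subgroup `K` with Frobenius normaliser `N`.
-/

set_option autoImplicit false

namespace Cfsg.Agent.Helper7

open Cfsg Cfsg.Agent.Helper11

universe u

section Const

variable {L : Type u} [Group L] [Fintype L]

theorem sum_const_off_one {A : Type*} [Group A] [Fintype A] (g : A → ℂ) (v : ℂ)
    (h : ∀ a, a ≠ 1 → g a = v) : ∑ a, g a = g 1 + ((Nat.card A : ℂ) - 1) * v := by
  classical
  rw [← Finset.add_sum_erase Finset.univ g (Finset.mem_univ 1)]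
  congr 1
  rw [Finset.sum_congr rfl (fun a ha => h a (Finset.ne_of_mem_erase ha)), Finset.sum_const,
    Finset.card_erase_of_mem (Finset.mem_univ 1), Finset.card_univ, nsmul_eq_mul,
    Nat.cast_sub Fintype.card_pos, Nat.card_eq_fintype_card, Nat.cast_one]

theorem sum_subgroup_support (K : Subgroup L) [Fintype K] (f : L → ℂ)
    (h : ∀ x, x ∉ K → f x = 0) : ∑ x : L, f x = ∑ k : K, f k := by
  classical
  have h1 : ∑ x : L, f x = ∑ x ∈ Finset.univ.filter (fun x : L => x ∈ K), f x := by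
    symm
    apply Finset.sum_filter_of_ne
    intro x _ hx
    by_contra hxK
    exact hx (h x hxK)
  rw [h1]
  exact Finset.sum_subtype _ (fun x => by simp) f

open Classical in
/-- A class function of `L` which, cut down to `K ∖ 1`, is orthogonal to all
`ξ(1) χ - χ(1) ξ` with `χ, ξ` irreducible and nontrivial on `K`, is constant on `K ∖ 1`. -/
theorem const_on_kernel_of_orth (K : Subgroup L) [hK : K.Normal] (F : L → ℂ)
    (hF : IsClassFunction L F)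
    (horth : ∀ χ ξ : IrrCharacter L, (∃ h ∈ K, (χ : L → ℂ) h ≠ (χ : L → ℂ) 1) →
      (∃ h ∈ K, (ξ : L → ℂ) h ≠ (ξ : L → ℂ) 1) →
      ∑ x : L, (if x ∈ K ∧ x ≠ 1 then F x else 0) *
        (starRingEnd ℂ) ((ξ : L → ℂ) 1 * (χ : L → ℂ) x - (χ : L → ℂ) 1 * (ξ : L → ℂ) x) = 0) :
    ∃ c : ℂ, ∀ k ∈ K, k ≠ 1 → F k = c := by
  classical
  obtain ⟨F₀, hF₀⟩ : ∃ F₀ : L → ℂ, F₀ = fun x => if x ∈ K ∧ x ≠ 1 then F x else 0 := ⟨_, rfl⟩
  have hF₀e : ∀ x, F₀ x = if x ∈ K ∧ x ≠ 1 then F x else 0 := by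
    intro x; rw [hF₀]
  have hF₀a : ∀ x, x ∈ K → x ≠ 1 → F₀ x = F x := by
    intro x hx hx1; rw [hF₀e]; exact if_pos ⟨hx, hx1⟩
  have hF₀b : ∀ x, ¬ (x ∈ K ∧ x ≠ 1) → F₀ x = 0 := by
    intro x hx; rw [hF₀e]; exact if_neg hx
  have hF₀cl : IsClassFunction L F₀ := by
    intro g h
    have h1 : (h * g * h⁻¹ ∈ K ∧ h * g * h⁻¹ ≠ 1) ↔ (g ∈ K ∧ g ≠ 1) := by
      constructor
      · rintro ⟨a, b⟩
        refine ⟨?_, ?_⟩
        · have h2 := hK.conj_mem _ a h⁻¹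
          have h3 : h⁻¹ * (h * g * h⁻¹) * h⁻¹⁻¹ = g := by group
          rwa [h3] at h2
        · intro h2
          apply b
          rw [h2]; group
      · rintro ⟨a, b⟩
        refine ⟨hK.conj_mem _ a h, ?_⟩
        intro h2
        apply b
        have h3 : g = h⁻¹ * (h * g * h⁻¹) * h := by group
        rw [h3, h2]; group
    by_cases hc : g ∈ K ∧ g ≠ 1
    · rw [hF₀a _ hc.1 hc.2, hF₀a _ (h1.mpr hc).1 (h1.mpr hc).2, hF g h]
    · rw [hF₀b _ hc, hF₀b _ (fun h2 => hc (h1.mp h2))]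
  have hconj1 : ∀ ψ : IrrCharacter L, (starRingEnd ℂ) ((ψ : L → ℂ) 1) = (ψ : L → ℂ) 1 := by
    intro ψ
    rw [Cfsg.Agent.Helper25.irr_one_eq_degree]
    exact Complex.conj_natCast _
  have hdeg0 : ∀ ψ : IrrCharacter L, (ψ : L → ℂ) 1 ≠ 0 := by
    intro ψ
    rw [Cfsg.Agent.Helper25.irr_one_eq_degree]
    exact Nat.cast_ne_zero.mpr (Cfsg.Agent.Helper25.irr_degree_pos ψ).ne'
  obtain ⟨s, hs⟩ : ∃ s : ℂ, s = classInner F₀ (fun _ => (1 : ℂ)) := ⟨_, rfl⟩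
  have hout : ∀ ψ : IrrCharacter L, (∀ h ∈ K, (ψ : L → ℂ) h = (ψ : L → ℂ) 1) →
      classInner F₀ (ψ : L → ℂ) = s * (ψ : L → ℂ) 1 := by
    intro ψ hψ
    rw [hs]
    unfold classInner
    rw [mul_assoc, Finset.sum_mul]
    congr 1
    apply Finset.sum_congr rfl
    intro x _
    by_cases hx : x ∈ K ∧ x ≠ 1
    · rw [hψ x hx.1, hconj1, map_one, mul_one]
    · rw [hF₀b x hx, zero_mul, zero_mul, zero_mul]
  obtain ⟨t, ht⟩ : ∃ t : ℂ, ∀ ψ : IrrCharacter L,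
      (∃ h ∈ K, (ψ : L → ℂ) h ≠ (ψ : L → ℂ) 1) →
      classInner F₀ (ψ : L → ℂ) = t * (ψ : L → ℂ) 1 := by
    by_cases hne : ∃ ξ₀ : IrrCharacter L, ∃ h ∈ K, (ξ₀ : L → ℂ) h ≠ (ξ₀ : L → ℂ) 1
    · obtain ⟨ξ₀, hξ₀⟩ := hne
      refine ⟨classInner F₀ (ξ₀ : L → ℂ) / (ξ₀ : L → ℂ) 1, ?_⟩
      intro ψ hψ
      have h1 := horth ψ ξ₀ hψ hξ₀
      have h3 : ∑ x : L, (if x ∈ K ∧ x ≠ 1 then F x else 0) *
          (starRingEnd ℂ) ((ξ₀ : L → ℂ) 1 * (ψ : L → ℂ) x - (ψ : L → ℂ) 1 * (ξ₀ : L → ℂ) x)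
          = (ξ₀ : L → ℂ) 1 * ∑ x : L, F₀ x * (starRingEnd ℂ) ((ψ : L → ℂ) x)
            - (ψ : L → ℂ) 1 * ∑ x : L, F₀ x * (starRingEnd ℂ) ((ξ₀ : L → ℂ) x) := by
        rw [Finset.mul_sum, Finset.mul_sum, ← Finset.sum_sub_distrib]
        apply Finset.sum_congr rfl
        intro x _
        rw [map_sub, map_mul, map_mul, hconj1, hconj1, ← hF₀e]
        ring
      rw [h3] at h1
      have h4 : (ξ₀ : L → ℂ) 1 * classInner F₀ (ψ : L → ℂ) =
          (ψ : L → ℂ) 1 * classInner F₀ (ξ₀ : L → ℂ) := by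
        unfold classInner
        linear_combination (Nat.card L : ℂ)⁻¹ * h1
      have hd := hdeg0 ξ₀
      field_simp
      linear_combination h4
    · exact ⟨0, fun ψ hψ => absurd ⟨ψ, hψ⟩ hne⟩
  obtain ⟨A, hA⟩ : ∃ A : ℂ, A = ∑ ψ : IrrCharacter L,
      (if (∃ h ∈ K, (ψ : L → ℂ) h ≠ (ψ : L → ℂ) 1) then 0
        else (ψ : L → ℂ) 1 * (ψ : L → ℂ) 1) := ⟨_, rfl⟩
  refine ⟨(s - t) * A, ?_⟩
  intro k hk hk1
  rw [← hF₀a k hk hk1]
  have hexp := congrFun (Cfsg.Agent.Helper2.classFun_eq_sum_classInner hF₀cl) k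
  rw [Finset.sum_apply] at hexp
  simp only [Pi.smul_apply, smul_eq_mul] at hexp
  rw [hexp]
  have hterm : ∀ ψ : IrrCharacter L, classInner F₀ (ψ : L → ℂ) * (ψ : L → ℂ) k =
      t * ((ψ : L → ℂ) 1 * (ψ : L → ℂ) k) + (s - t) *
        (if (∃ h ∈ K, (ψ : L → ℂ) h ≠ (ψ : L → ℂ) 1) then 0
          else (ψ : L → ℂ) 1 * (ψ : L → ℂ) 1) := by
    intro ψ
    by_cases hψ : ∃ h ∈ K, (ψ : L → ℂ) h ≠ (ψ : L → ℂ) 1
    · rw [if_pos hψ, ht ψ hψ]; ring
    · rw [if_neg hψ]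
      have hψ' : ∀ h ∈ K, (ψ : L → ℂ) h = (ψ : L → ℂ) 1 := by
        intro h hh
        by_contra hcon
        exact hψ ⟨h, hh, hcon⟩
      rw [hout ψ hψ', hψ' k hk]; ring
  rw [Finset.sum_congr rfl (fun ψ _ => hterm ψ), Finset.sum_add_distrib, ← Finset.mul_sum,
    ← Finset.mul_sum, Cfsg.Agent.Helper25.sum_irr_one_mul, if_neg hk1, mul_zero, zero_add, hA]

end Const

section TI

variable {G : Type u} [Group G] [Fintype G] (N : Subgroup G) [Fintype N] (K : Subgroup G)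

/-- The irreducible characters of `N` that are nontrivial on `K`. -/
def relS : Set (N → ℂ) := {χ | IsIrrCharacter N χ ∧ ∃ k : N, (k : G) ∈ K ∧ χ k ≠ χ 1}

theorem subgroupOf_normal_of_norm (hnorm : ∀ n ∈ N, ∀ k ∈ K, n * k * n⁻¹ ∈ K) :
    (K.subgroupOf N).Normal :=
  ⟨fun k hk x => by
    rw [Subgroup.mem_subgroupOf] at hk ⊢
    simpa using hnorm x x.2 k hk⟩

theorem centralizer_subgroupOf_le
    (hC : ∀ k ∈ K, k ≠ 1 → Subgroup.centralizer ({k} : Set G) ≤ K) :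
    ∀ h ∈ K.subgroupOf N, h ≠ 1 →
      Subgroup.centralizer ({h} : Set N) ≤ K.subgroupOf N := by
  intro h hh h1 x hx
  rw [Subgroup.mem_subgroupOf]
  apply hC (h : G) (Subgroup.mem_subgroupOf.mp hh) (fun h0 => h1 (Subtype.ext h0))
  rw [Subgroup.mem_centralizer_iff] at hx ⊢
  intro y hy
  rw [Set.mem_singleton_iff] at hy
  rw [hy]
  have := hx h (Set.mem_singleton h)
  exact congrArg Subtype.val this

theorem relS_eq (hnorm : ∀ n ∈ N, ∀ k ∈ K, n * k * n⁻¹ ∈ K)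
    (hC : ∀ k ∈ K, k ≠ 1 → Subgroup.centralizer ({k} : Set G) ≤ K) :
    relS N K = inducedIrrAbove (K.subgroupOf N) ⊥ := by
  haveI := subgroupOf_normal_of_norm N K hnorm
  rw [← frob_irr_set_eq (K.subgroupOf N) (centralizer_subgroupOf_le N K hC)]
  ext χ
  constructor
  · rintro ⟨h1, k, hk, hne⟩
    exact ⟨h1, k, Subgroup.mem_subgroupOf.mpr hk, hne⟩
  · rintro ⟨h1, k, hk, hne⟩
    exact ⟨h1, k, Subgroup.mem_subgroupOf.mp hk, hne⟩

theorem relS_vanish (hnorm : ∀ n ∈ N, ∀ k ∈ K, n * k * n⁻¹ ∈ K)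
    (hC : ∀ k ∈ K, k ≠ 1 → Subgroup.centralizer ({k} : Set G) ≤ K)
    {χ : N → ℂ} (hχ : χ ∈ relS N K) (x : N) (hx : (x : G) ∉ K) : χ x = 0 := by
  haveI := subgroupOf_normal_of_norm N K hnorm
  rw [relS_eq N K hnorm hC] at hχ
  obtain ⟨θ, -, -, -, rfl⟩ := hχ
  exact indFun_apply_of_not_mem_normal _ θ x (fun h => hx (Subgroup.mem_subgroupOf.mp h))

theorem relS_zspanOn (hnorm : ∀ n ∈ N, ∀ k ∈ K, n * k * n⁻¹ ∈ K)
    (hC : ∀ k ∈ K, k ≠ 1 → Subgroup.centralizer ({k} : Set G) ≤ K)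
    {α : N → ℂ} (hα : α ∈ zspanOn (relS N K) {1}ᶜ) :
    IsClassFunction N α ∧ (∀ x : N, (x : G) ∉ K → α x = 0) ∧ α 1 = 0 ∧
      IsGeneralizedCharacter N α := by
  have hgen : ∀ χ ∈ relS N K, IsGeneralizedCharacter N χ := fun χ hχ =>
    isGeneralizedCharacter_of_isCharacter (Cfsg.Agent.Helper25.isCharacter_of_irr hχ.1)
  have h1 := zspan_isGeneralizedCharacter hgen hα.1
  refine ⟨(Cfsg.Agent.Helper2.isGeneralizedCharacter_iff.mp h1).1, ?_,
    zspanOn_compl_one_apply hα, h1⟩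
  intro x hx
  exact zspan_vanish {x : N | (x : G) ∈ K}
    (fun χ hχ x hx => relS_vanish N K hnorm hC hχ x hx) hα.1 x hx

theorem relS_pair_mem {χ ξ : N → ℂ} (hχ : χ ∈ relS N K) (hξ : ξ ∈ relS N K) :
    (ξ 1 • χ - χ 1 • ξ) ∈ zspanOn (relS N K) {1}ᶜ := by
  have e1 : ξ 1 = ((charDegree ξ : ℤ) : ℂ) := by
    rw [Cfsg.Agent.Helper25.char_one_eq_degree (Cfsg.Agent.Helper25.isCharacter_of_irr hξ.1)]
    simp
  have e2 : χ 1 = ((charDegree χ : ℤ) : ℂ) := by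
    rw [Cfsg.Agent.Helper25.char_one_eq_degree (Cfsg.Agent.Helper25.isCharacter_of_irr hχ.1)]
    simp
  have e3 : ξ 1 • χ - χ 1 • ξ = (charDegree ξ : ℤ) • χ - (charDegree χ : ℤ) • ξ := by
    rw [zsmul_fun_eq, zsmul_fun_eq, ← e1, ← e2]
  have h1 : (ξ 1 • χ - χ 1 • ξ) 1 = 0 := by
    simp only [Pi.sub_apply, Pi.smul_apply, smul_eq_mul]; ring
  rw [e3] at h1 ⊢
  exact mem_zspanOn_compl_one (Submodule.sub_mem _
    (Submodule.smul_mem _ _ (Submodule.subset_span hχ))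
    (Submodule.smul_mem _ _ (Submodule.subset_span hξ))) h1

theorem tifrob_ind_apply (hnorm : ∀ n ∈ N, ∀ k ∈ K, n * k * n⁻¹ ∈ K)
    (hTI : ∀ g : G, g ∉ N → ∀ k ∈ K, g * k * g⁻¹ ∈ K → k = 1)
    (hC : ∀ k ∈ K, k ≠ 1 → Subgroup.centralizer ({k} : Set G) ≤ K)
    {α : N → ℂ} (hα : α ∈ zspanOn (relS N K) {1}ᶜ) (k : N) (hk : (k : G) ∈ K) (hk1 : k ≠ 1) :
    indFun N α k = α k := by
  obtain ⟨hαcl, hαv, -, -⟩ := relS_zspanOn N K hnorm hC hα
  exact ti_indFun_apply N (K : Set G) hTI α hαcl hαv k hk hk1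

/-- For a T.I. subgroup `K` with Frobenius normaliser `N`: if `Ψ` (on `G`) and `φ` (on `N`) are
class functions with `(Ψ, α^G) = (φ, α)` for all `α` in the integer span of the relevant
characters vanishing at `1`, then `Ψ - φ` is constant on `K ∖ 1`. -/
theorem tifrob_const (hnorm : ∀ n ∈ N, ∀ k ∈ K, n * k * n⁻¹ ∈ K)
    (hC : ∀ k ∈ K, k ≠ 1 → Subgroup.centralizer ({k} : Set G) ≤ K)
    (Ψ : G → ℂ) (hΨ : IsClassFunction G Ψ) (φ : N → ℂ) (hφ : IsClassFunction N φ)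
    (h : ∀ α ∈ zspanOn (relS N K) {1}ᶜ, classInner Ψ (indFun N α) = classInner φ α) :
    ∃ c : ℂ, ∀ k : N, (k : G) ∈ K → k ≠ 1 → Ψ k - φ k = c := by
  classical
  haveI := subgroupOf_normal_of_norm N K hnorm
  have hFcl : IsClassFunction N (fun x : N => Ψ x - φ x) := by
    intro g x
    show Ψ ((x * g * x⁻¹ : N) : G) - φ (x * g * x⁻¹) = Ψ g - φ g
    rw [hφ g x]
    have h1 : ((x * g * x⁻¹ : N) : G) = (x : G) * g * (x : G)⁻¹ := by simp
    rw [h1, hΨ]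
  have key : ∃ c : ℂ, ∀ k ∈ K.subgroupOf N, k ≠ 1 → (fun x : N => Ψ x - φ x) k = c := by
    apply const_on_kernel_of_orth (K.subgroupOf N) (fun x : N => Ψ x - φ x) hFcl
    intro χ ξ hχ hξ
    have hχS : (χ : N → ℂ) ∈ relS N K := by
      obtain ⟨k, hk, hne⟩ := hχ
      exact ⟨χ.2, k, Subgroup.mem_subgroupOf.mp hk, hne⟩
    have hξS : (ξ : N → ℂ) ∈ relS N K := by
      obtain ⟨k, hk, hne⟩ := hξ
      exact ⟨ξ.2, k, Subgroup.mem_subgroupOf.mp hk, hne⟩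
    have hα := relS_pair_mem N K hχS hξS
    obtain ⟨hαcl, hαv, hα1, -⟩ := relS_zspanOn N K hnorm hC hα
    have h1 := h _ hα
    have h2 : classInner Ψ
        (indFun N ((ξ : N → ℂ) 1 • (χ : N → ℂ) - (χ : N → ℂ) 1 • (ξ : N → ℂ))) =
        classInner (fun x : N => Ψ x)
          ((ξ : N → ℂ) 1 • (χ : N → ℂ) - (χ : N → ℂ) 1 • (ξ : N → ℂ)) := by
      rw [Cfsg.Agent.Helper2.classInner_conj_symm,
        Cfsg.Agent.Helper2.frobenius_reciprocity N _ Ψ hΨ,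
        ← Cfsg.Agent.Helper2.classInner_conj_symm]
    rw [h2] at h1
    have h3 : classInner ((fun x : N => Ψ x) - φ)
        ((ξ : N → ℂ) 1 • (χ : N → ℂ) - (χ : N → ℂ) 1 • (ξ : N → ℂ)) = 0 := by
      rw [Cfsg.Agent.Helper2.classInner_sub_left, h1, sub_self]
    unfold classInner at h3
    have hN0 : (Nat.card N : ℂ)⁻¹ ≠ 0 := inv_ne_zero (Nat.cast_ne_zero.mpr Nat.card_pos.ne')
    have h4 := (mul_eq_zero.mp h3).resolve_left hN0
    refine (Finset.sum_congr rfl ?_).trans h4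
    intro x _
    by_cases hx : x ∈ K.subgroupOf N ∧ x ≠ 1
    · rw [if_pos hx]
      simp only [Pi.sub_apply, Pi.smul_apply, smul_eq_mul]
    · rw [if_neg hx, zero_mul]
      have hαx : ((ξ : N → ℂ) 1 • (χ : N → ℂ) - (χ : N → ℂ) 1 • (ξ : N → ℂ)) x = 0 := by
        by_cases hxK : (x : G) ∈ K
        · have hx1 : x = 1 := by
            by_contra h1'
            exact hx ⟨Subgroup.mem_subgroupOf.mpr hxK, h1'⟩
          rw [hx1]
          exact hα1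
        · exact hαv x hxK
      rw [hαx, map_zero, mul_zero]
  obtain ⟨c, hc⟩ := key
  exact ⟨c, fun k hk hk1 => hc k (Subgroup.mem_subgroupOf.mpr hk) hk1⟩

end TI

end Cfsg.Agent.Helper7
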